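import Cfsg.Agent.Lib.CyclicFourCent.Main

/-!
From the statement's hypotheses to the two-rank.
-/

set_option autoImplicit false
set_option linter.style.haveILetI false
set_option linter.unusedSectionVars false

namespace Cfsg.Agent.CyclicFourCent

open Subgroup

universe u

variable {G : Type u} [Group G] [Finite G]

theorem perfect_sylow_cyclic_trivial {K : Type u} [Group K] [Finite K] (hK : commutator K = ⊤)
    (P : Sylow 2 K) (hP : IsCyclic P) : Nat.card P = 1 := by
  haveI : Fact (Nat.Prime 2) := ⟨Nat.prime_two⟩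
  by_contra h
  obtain ⟨n, hn⟩ := P.2.exists_card_eq
  have h2 : 2 ∣ Nat.card K := by
    refine dvd_trans ?_ (card_subgroup_dvd_card (P : Subgroup K))
    rw [hn]
    refine dvd_pow_self 2 fun h0 => h ?_
    rw [h0, pow_zero] at hn
    exact hn
  have hN := IsCyclic.normalizer_le_centralizer ((Nat.minFac_eq_two_iff _).2 h2) hP
  have hc := MonoidHom.ker_transferSylow_isComplement' P hN
  have htop : (MonoidHom.transferSylow P hN).ker = ⊤ := by
    rw [eq_top_iff, ← hK, _root_.commutator_def, commutator_le]
    intro a _ b _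
    rw [MonoidHom.mem_ker, map_commutatorElement, commutatorElement_eq_one_iff_commute]
    haveI := hP
    obtain ⟨c, hc⟩ := IsCyclic.exists_generator (α := (P : Subgroup K))
    obtain ⟨i, hi⟩ := hc (MonoidHom.transferSylow P hN a)
    obtain ⟨j, hj⟩ := hc (MonoidHom.transferSylow P hN b)
    rw [← hi, ← hj]
    exact (Commute.refl c).zpow_zpow i j
  rw [htop, isComplement'_top_left] at hc
  rw [show Nat.card P = Nat.card (P : Subgroup K) from rfl, hc, card_bot] at h
  exact h rfl

/-- The subgroup `A ∪ A t`. -/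
def ext2 (A : Subgroup G) (t : G) (htt : t * t = 1) (htA : t ∈ normalizer (A : Set G)) : Subgroup G where
  carrier := {x | x ∈ A ∨ x * t ∈ A}
  one_mem' := Or.inl A.one_mem
  mul_mem' := by
    have hti : t⁻¹ = t := inv_eq_of_mul_eq_one_right htt
    have hc : ∀ {a : G}, a ∈ A → t * a * t ∈ A := fun {a} ha => by
      have := (mem_normalizer_iff.1 htA a).1 ha
      rwa [hti] at this
    rintro x y (hx | hx) (hy | hy)
    · exact Or.inl (A.mul_mem hx hy)
    · exact Or.inr (by rw [mul_assoc]; exact A.mul_mem hx hy)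
    · refine Or.inr ?_
      have h := A.mul_mem hx (hc hy)
      rwa [show x * t * (t * y * t) = x * (t * t) * y * t by group, htt, mul_one] at h
    · refine Or.inl ?_
      have h := A.mul_mem hx (hc hy)
      rwa [show x * t * (t * (y * t) * t) = x * (t * t) * y * (t * t) by group, htt, mul_one, mul_one] at h
  inv_mem' := by
    have hti : t⁻¹ = t := inv_eq_of_mul_eq_one_right htt
    rintro x (hx | hx)
    · exact Or.inl (A.inv_mem hx)
    · refine Or.inr ?_
      have h := (mem_normalizer_iff.1 htA _).1 (A.inv_mem hx)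
      rwa [mul_inv_rev, ← mul_assoc t, mul_inv_cancel, one_mul, hti] at h

variable (A : Subgroup G) (hperf : ⁅A, A⁆ = A) {t s : G} (htt : t * t = 1)
  (htA : t ∈ normalizer (A : Set G)) (hsA : s ∈ A) (hts : t * s = s * t) (hs4 : orderOf s = 4)
  (small : ∀ P : Subgroup G, P ≤ A → IsPGroup 2 P → (∀ x ∈ P, x * t = t * x) → Nat.card P ≤ 4)

include htt hts hs4 in
theorem two_group_st : IsPGroup 2 (zpowers t ⊔ zpowers s : Subgroup G) := by
  haveI : Fact (Nat.Prime 2) := ⟨Nat.prime_two⟩
  refine IsPGroup.to_sup_of_normal_right'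
    (IsPGroup.of_card_dvd_pow (n := 1) (by
      rw [Nat.card_zpowers]
      exact orderOf_dvd_of_pow_eq_one (by rw [pow_one, pow_two, htt])))
    (IsPGroup.of_card_dvd_pow (n := 2) (by rw [Nat.card_zpowers, hs4]; exact dvd_rfl))
    (zpowers_le.2 (centralizer_le_normalizer _ (mem_centralizer_iff.2 ?_)))
  rintro _ ⟨i, rfl⟩
  exact ((show Commute s t from hts.symm).zpow_left i).eq

include hperf htt hsA hts hs4 small in
/-- The involution lies outside. -/
theorem notMem : t ∉ A ∨ t = 1 := by
  haveI : Fact (Nat.Prime 2) := ⟨Nat.prime_two⟩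
  by_cases h : t ∈ A
  swap
  · exact Or.inl h
  refine Or.inr (by_contra fun ht1 => ?_)
  have hcent : ∀ x ∈ (zpowers t ⊔ zpowers s : Subgroup G), x * t = t * x := fun x hx => by
    have hle : (zpowers t ⊔ zpowers s : Subgroup G) ≤ centralizer ({t} : Set G) := sup_le
      (zpowers_le.2 (mem_centralizer_singleton_iff.2 rfl))
      (zpowers_le.2 (mem_centralizer_singleton_iff.2 hts.symm))
    exact mem_centralizer_singleton_iff.1 (hle hx)
  have hc4 := small _ (sup_le (zpowers_le.2 h) (zpowers_le.2 hsA)) (two_group_st htt hts hs4) hcent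
  have heq := eq_of_le_of_card_ge (le_sup_right : zpowers s ≤ zpowers t ⊔ zpowers s)
    (by rw [Nat.card_zpowers, hs4]; exact hc4)
  have htz : t ∈ zpowers s := heq ▸ mem_sup_left (mem_zpowers t)
  have hts2 : t = s * s := by
    rcases TwoFus.order_four_cases hs4 htz with h1 | h1 | h1 | h1
    · exact absurd h1 ht1
    · exfalso
      have := orderOf_dvd_of_pow_eq_one (x := s) (n := 2) (by rw [← h1, pow_two, htt])
      rw [hs4] at this
      norm_num at this
    · exact h1
    · exfalso
      have h2 : s⁻¹ * s⁻¹ = 1 := h1 ▸ htt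
      have := orderOf_dvd_of_pow_eq_one (x := s⁻¹) (n := 2) (by rw [pow_two, h2])
      rw [orderOf_inv, hs4] at this
      norm_num at this
  set σ : A := ⟨s, hsA⟩ with hσ
  have hσ4 : orderOf σ = 4 := by rw [← orderOf_coe]; exact hs4
  obtain ⟨P, hP⟩ := (IsPGroup.of_card_dvd_pow (n := 2) (G := zpowers σ) (p := 2)
    (by rw [Nat.card_zpowers, hσ4]; exact dvd_rfl)).exists_le_sylow
  set W := (zpowers σ).subgroupOf (P : Subgroup A) with hW
  have hnil : Group.IsNilpotent (P : Subgroup A) := P.2.isNilpotent
  have hWtop : W = ⊤ := by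
    refine (normalizerCondition_iff_only_full_group_self_normalizing.1
      (Group.normalizerCondition_of_isNilpotent (G := (P : Subgroup A)))) W ?_
    refine le_antisymm ?_ le_normalizer
    set N := normalizer (W : Set (P : Subgroup A)) with hN
    set f : (P : Subgroup A) →* G := A.subtype.comp (P : Subgroup A).subtype with hf
    have hfi : Function.Injective f := A.subtype_injective.comp (P : Subgroup A).subtype_injective
    have hle : W.map f ≤ N.map f := map_mono le_normalizer
    have hcN : Nat.card (N.map f) ≤ 4 := by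
      refine small _ ?_ ((P.2.to_subgroup N).map f) ?_
      · rintro _ ⟨x, -, rfl⟩
        exact (x : A).2
      · rintro _ ⟨x, hx, rfl⟩
        have h1 := (mem_normalizer_iff.1 hx ⟨σ, hP (mem_zpowers σ)⟩).1
          (by show σ ∈ zpowers σ; exact mem_zpowers σ)
        have h2 : (x : A) * σ * (x : A)⁻¹ ∈ zpowers σ := h1
        have h3 : ((x : A) : G) * s * ((x : A) : G)⁻¹ ∈ zpowers s := by
          obtain ⟨i, hi⟩ := h2
          exact ⟨i, congrArg Subtype.val hi⟩
        show ((x : A) : G) * t = t * ((x : A) : G)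
        rw [← mul_inv_eq_iff_eq_mul, hts2]
        set y := ((x : A) : G) with hy
        have h4 : y * (s * s) * y⁻¹ = y * s * y⁻¹ * (y * s * y⁻¹) := by group
        have h5 : orderOf (y * s * y⁻¹) = 4 := by rw [← MulAut.conj_apply, MulEquiv.orderOf_eq, hs4]
        rw [h4]
        rcases TwoFus.order_four_cases hs4 h3 with h6 | h6 | h6 | h6
        · rw [h6, orderOf_one] at h5; norm_num at h5
        · rw [h6]
        · rw [h6] at h5
          have := orderOf_dvd_of_pow_eq_one (x := s * s) (n := 2) (by rw [pow_two, ← hts2, htt])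
          rw [h5] at this
          norm_num at this
        · rw [h6, ← mul_inv_rev]
          exact inv_eq_of_mul_eq_one_right (by rw [← hts2, htt])
    have hcW : 4 ≤ Nat.card (W.map f) := by
      rw [card_map_of_injective hfi, hW, Nat.card_congr (subgroupOfEquivOfLe hP).toEquiv, Nat.card_zpowers, hσ4]
    exact (map_le_map_iff_of_injective hfi).1 (eq_of_le_of_card_ge hle (hcN.trans hcW)).ge
  have hPeq : (P : Subgroup A) = zpowers σ := le_antisymm (subgroupOf_eq_top.1 hWtop) hP
  have hK : commutator A = ⊤ := by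
    rw [← map_injective A.subtype_injective |>.eq_iff, map_subtype_commutator, ← MonoidHom.range_eq_map,
      range_subtype]
    exact hperf
  have hcy : IsCyclic P := by
    show IsCyclic (P : Subgroup A)
    rw [hPeq]
    infer_instance
  have h1 := perfect_sylow_cyclic_trivial hK P hcy
  rw [show Nat.card P = Nat.card (P : Subgroup A) from rfl, hPeq, Nat.card_zpowers, hσ4] at h1
  norm_num at h1

include hperf htt htA hsA hts hs4 small in
/-- Conjugates of involutions: every elementary abelian subgroup has order at most two. -/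
theorem card_elementary_le (ht1 : t ≠ 1) (E : Subgroup G) (hEA : E ≤ A) (hE : ∀ x ∈ E, x * x = 1) :
    Nat.card E ≤ 2 := by
  classical
  haveI : Fact (Nat.Prime 2) := ⟨Nat.prime_two⟩
  have htnA : t ∉ A := (notMem A hperf htt hsA hts hs4 small).resolve_right ht1
  set B := ext2 A t htt htA with hB
  have hAB : A ≤ B := fun x hx => Or.inl hx
  have htB : t ∈ B := Or.inr (by rw [htt]; exact A.one_mem)
  set A' := A.subgroupOf B with hA'
  haveI hnA : A'.Normal := normal_subgroupOf_of_le_normalizer (fun x hx => by
    rcases hx with hx | hx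
    · exact le_normalizer hx
    · have := mul_mem (le_normalizer hx : x * t ∈ normalizer (A : Set G)) htA
      rwa [mul_assoc, htt, mul_one] at this)
  have hidx : A'.index = 2 := by
    rw [index_eq_two_iff]
    refine ⟨⟨t, htB⟩, fun b => ?_⟩
    simp only [hA', mem_subgroupOf, coe_mul]
    rcases b.2 with hb | hb
    · exact Or.inr ⟨hb, fun h => htnA (by simpa using A.mul_mem (A.inv_mem hb) h)⟩
    · exact Or.inl ⟨hb, fun h => htnA (by simpa using A.mul_mem (A.inv_mem h) hb)⟩
  set s' : B := ⟨s, hAB hsA⟩ with hs'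
  set t' : B := ⟨t, htB⟩ with ht'
  have hmapA : A'.map B.subtype = A := by rw [hA', map_subgroupOf_eq_of_le hAB]
  have hperf' : ⁅A', A'⁆ = A' := by
    rw [← map_injective B.subtype_injective |>.eq_iff, map_commutator, hmapA]
    exact hperf
  obtain ⟨T, hT⟩ := ((two_group_st htt hts hs4).comap_of_injective B.subtype B.subtype_injective).exists_le_sylow
  have H : Hyp A' (T : Subgroup B) t' s' := {
    normA := hnA
    idx := hidx
    perf := hperf'
    two := T.2
    odd := Nat.not_even_iff_odd.1 (by rw [even_iff_two_dvd]; exact T.not_dvd_index)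
    tT := hT (mem_sup_left (mem_zpowers t))
    tA := htnA
    tt := Subtype.ext htt
    sT := hT (mem_sup_right (mem_zpowers s))
    sA := hsA
    ts := Subtype.ext hts
    s4 := by rw [← orderOf_coe]; exact hs4
    small := fun P hP hP2 hPc => by
      have := small (P.map B.subtype) ((map_mono hP).trans hmapA.le) (hP2.map _) (by
        rintro _ ⟨x, hx, rfl⟩
        exact congrArg Subtype.val (hPc x hx))
      rwa [card_map_of_injective B.subtype_injective] at this }
  set E' := E.subgroupOf B with hE'
  have hE2 : IsPGroup 2 E' := fun x => ⟨1, Subtype.ext (Subtype.ext (by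
    rw [pow_one, pow_two]
    exact hE _ x.2))⟩
  obtain ⟨R, hR⟩ := hE2.exists_le_sylow
  obtain ⟨g, hg⟩ := MulAction.exists_smul_eq B R T
  have key : ∀ x ∈ E', g * x * g⁻¹ = 1 ∨ g * x * g⁻¹ = s' * s' := fun x hx => by
    refine H.unique_invol ?_ (hnA.conj_mem x (hEA hx) g) ?_
    · rw [← hg, Sylow.coe_subgroup_smul]
      exact ⟨x, hR hx, rfl⟩
    · have h1 : x * x = 1 := Subtype.ext (hE _ hx)
      rw [show g * x * g⁻¹ * (g * x * g⁻¹) = g * (x * x) * g⁻¹ by group, h1, mul_one, mul_inv_cancel]
  rw [← Nat.card_congr (subgroupOfEquivOfLe (hEA.trans hAB)).toEquiv, ← hE']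
  letI := Fintype.ofFinite E'
  rw [Nat.card_eq_fintype_card, ← Finset.card_univ,
    ← Finset.card_map (Function.Embedding.subtype (fun x => x ∈ E'))]
  refine (Finset.card_le_card (t := {1, g⁻¹ * (s' * s') * g}) fun x hx => ?_).trans Finset.card_le_two
  obtain ⟨⟨y, hy⟩, -, rfl⟩ := Finset.mem_map.1 hx
  simp only [Function.Embedding.subtype_apply, Finset.mem_insert, Finset.mem_singleton]
  rcases key y hy with h | h
  · exact Or.inl (by simpa using h)
  · exact Or.inr (by rw [← h]; group)

end Cfsg.Agent.CyclicFourCent
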