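import Cfsg.Agent.Lib.CyclicFourCent.Tools

/-!
The action of `s` on `D` and the case of an involution of `S` outside `D ∪ D s`.
-/

set_option autoImplicit false
set_option linter.style.haveILetI false
set_option linter.unusedSectionVars false

namespace Cfsg.Agent.CyclicFourCent

open Subgroup

universe u

variable {G : Type u} [Group G] [Finite G]

theorem int_cases {n : ℕ} {p q m : ℤ} (hp : ¬ (2 : ℤ) ∣ p) (hq : ¬ (2 : ℤ) ∣ q)
    (h1 : (2 : ℤ) ^ n ∣ q * (1 - p) + 2 * m) (h2 : (2 : ℤ) ^ n ∣ m * (1 + p)) :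
    (2 : ℤ) ^ n ∣ 1 - p ∨ (2 : ℤ) ^ n ∣ 1 + p := by
  have hcop : ∀ {b : ℕ} {c : ℤ}, ¬ (2 : ℤ) ∣ c → IsCoprime ((2 : ℤ) ^ b) c := fun {b c} hc =>
    ((Prime.coprime_iff_not_dvd Int.prime_two).2 hc).pow_left
  rcases Nat.lt_or_ge n 2 with hn | hn
  · left
    interval_cases n <;> norm_num
    omega
  rcases Int.even_or_odd' m with ⟨j, rfl | rfl⟩
  · have h4 : (2 : ℤ) ^ 2 ∣ q * (1 - p) + 2 * (2 * j) := (pow_dvd_pow 2 hn).trans h1
    have h5 : (2 : ℤ) ^ 2 ∣ q * (1 - p) := by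
      have := dvd_sub h4 (⟨j, by ring⟩ : (2 : ℤ) ^ 2 ∣ 2 * (2 * j))
      simpa using this
    obtain ⟨u, hu⟩ := (hcop hq).dvd_of_dvd_mul_left h5
    have h6 : (2 : ℤ) ^ n ∣ 2 * (2 * j) * (1 - 2 * u) := by
      have : 1 + p = 2 * (1 - 2 * u) := by linear_combination -hu
      rw [this] at h2
      rwa [show 2 * (2 * j) * (1 - 2 * u) = 2 * j * (2 * (1 - 2 * u)) by ring]
    have h7 := (hcop (by omega)).dvd_of_dvd_mul_right h6
    left
    refine (hcop hq).dvd_of_dvd_mul_left ?_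
    have := dvd_sub h1 h7
    simpa using this
  · exact Or.inr ((hcop (by omega)).dvd_of_dvd_mul_left h2)

namespace Hyp

variable {A T : Subgroup G} {t s : G} (H : Hyp A T t s)

include H

theorem orderOf_two_pow {x : G} (hx : x ∈ T) : ∃ n : ℕ, orderOf x = 2 ^ n := by
  obtain ⟨j, hj⟩ := H.two ⟨x, hx⟩
  obtain ⟨n, -, hn⟩ := (Nat.dvd_prime_pow Nat.prime_two).1
    (orderOf_dvd_of_pow_eq_one (congrArg Subtype.val hj : x ^ 2 ^ j = 1))
  exact ⟨n, hn⟩

/-- Applying `t` to the commutator of `r` and `s`. -/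
theorem rel {r : G} (hr : r ∈ T) :
    r * (r⁻¹ * (t * r * t⁻¹) * (s * (r⁻¹ * (t * r * t⁻¹)) * s⁻¹)⁻¹) * r⁻¹ * (r * s * r⁻¹ * s⁻¹) *
      (r * s * r⁻¹ * s⁻¹) = 1 := by
  have h1 := H.t_inverts (H.comm_mem hr H.sT)
  have h2 : t * s * t⁻¹ = s := by rw [H.ts, mul_inv_cancel_right]
  have h3 : r * (r⁻¹ * (t * r * t⁻¹) * (s * (r⁻¹ * (t * r * t⁻¹)) * s⁻¹)⁻¹) * r⁻¹ * (r * s * r⁻¹ * s⁻¹) =
      t * (r * s * r⁻¹ * s⁻¹) * t⁻¹ := by
    calc _ = t * r * t⁻¹ * s * (t * r * t⁻¹)⁻¹ * s⁻¹ := by group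
      _ = t * r * t⁻¹ * (t * s * t⁻¹) * (t * r * t⁻¹)⁻¹ * (t * s * t⁻¹)⁻¹ := by rw [h2]
      _ = _ := by group
  rw [h3, h1, inv_mul_cancel]

theorem rel_sq {r : G} (hr : r ∈ T) :
    r * s * r⁻¹ * s⁻¹ * (s * (r * s * r⁻¹ * s⁻¹) * s⁻¹) = 1 := by
  calc r * s * r⁻¹ * s⁻¹ * (s * (r * s * r⁻¹ * s⁻¹) * s⁻¹) = r * (s * s) * r⁻¹ * (s * s)⁻¹ := by group
    _ = 1 := by rw [H.z_central hr, mul_inv_cancel_right, mul_inv_cancel]

/-- `s` centralizes or inverts `D`. -/
theorem s_cases (hD : (⁅T, T⁆ : Subgroup G) ≠ ⊥) :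
    (∀ x ∈ ⁅T, T⁆, s * x * s⁻¹ = x) ∨ (∀ x ∈ ⁅T, T⁆, s * x * s⁻¹ = x⁻¹) := by
  obtain ⟨r, hr, hrA, hrD, hrs⟩ := H.exists_outside hD
  have hgen := H.gen hD hr hrA hrD hrs
  set k := r⁻¹ * (t * r * t⁻¹) with hk
  have hkD : k ∈ ⁅T, T⁆ := hgen ▸ mem_zpowers k
  obtain ⟨n, hn⟩ := H.orderOf_two_pow (H.D_le_T hkD)
  have hn0 : n ≠ 0 := fun h => hD (by
    rw [h, pow_zero, orderOf_eq_one_iff] at hn
    rw [hgen, hn, zpowers_one_eq_bot])
  have hdvd : ∀ i : ℤ, k ^ i = 1 ↔ (2 : ℤ) ^ n ∣ i := fun i => by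
    rw [← orderOf_dvd_iff_zpow_eq_one, hn]; norm_cast
  obtain ⟨p, hp⟩ := hgen ▸ H.conj_D H.sT hkD
  obtain ⟨q, hq⟩ := hgen ▸ H.conj_D hr hkD
  obtain ⟨m, hm⟩ := hgen ▸ H.comm_mem hr H.sT
  have hp : k ^ p = s * k * s⁻¹ := hp
  have hq : k ^ q = r * k * r⁻¹ := hq
  have hm : k ^ m = r * s * r⁻¹ * s⁻¹ := hm
  have hodd : ∀ {x : G} {i : ℤ}, k ^ i = x * k * x⁻¹ → ¬ (2 : ℤ) ∣ i := by
    rintro x i h ⟨l, rfl⟩
    have h1 : k ^ ((2 : ℤ) ^ (n - 1)) = 1 := by
      have h2 : (x * k * x⁻¹) ^ ((2 : ℤ) ^ (n - 1)) = 1 := by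
        rw [← h, ← zpow_mul, hdvd]
        refine ⟨l, ?_⟩
        rw [show (2 : ℤ) ^ n = 2 * 2 ^ (n - 1) by rw [← pow_succ']; congr 1; omega]
        ring
      rwa [conj_zpow, conj_eq_one_iff] at h2
    rw [hdvd] at h1
    have h3 : 2 ^ n ∣ 2 ^ (n - 1) := by exact_mod_cast h1
    have := (Nat.pow_dvd_pow_iff_le_right (by norm_num)).1 h3
    omega
  have h1 : (2 : ℤ) ^ n ∣ q * (1 - p) + 2 * m := by
    rw [← hdvd]
    have h := H.rel hr
    rw [← hk, ← hp, ← hm] at h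
    calc k ^ (q * (1 - p) + 2 * m) = (k ^ q) ^ (1 - p) * (k ^ m * k ^ m) := by
          rw [zpow_add, zpow_mul, two_mul, zpow_add]
      _ = r * k ^ (1 - p) * r⁻¹ * (k ^ m * k ^ m) := by rw [hq, conj_zpow]
      _ = r * (k * (k ^ p)⁻¹) * r⁻¹ * k ^ m * k ^ m := by rw [zpow_sub, zpow_one]; group
      _ = 1 := h
  have h2 : (2 : ℤ) ^ n ∣ m * (1 + p) := by
    rw [← hdvd]
    have h := H.rel_sq hr
    rw [← hm, ← conj_zpow, ← hp, ← zpow_mul, ← zpow_add] at h
    rw [← h]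
    congr 1
    ring
  rcases int_cases (hodd hp) (hodd hq) h1 h2 with h | h
  · left
    intro x hx
    obtain ⟨i, rfl⟩ := hgen ▸ hx
    show s * k ^ i * s⁻¹ = k ^ i
    rw [← conj_zpow, ← hp, ← zpow_mul, ← mul_inv_eq_one, ← zpow_neg, ← zpow_add, hdvd]
    have := dvd_mul_of_dvd_left h (-i)
    rwa [show p * i + -i = (1 - p) * -i by ring]
  · right
    intro x hx
    obtain ⟨i, rfl⟩ := hgen ▸ hx
    show s * k ^ i * s⁻¹ = (k ^ i)⁻¹
    rw [← conj_zpow, ← hp, ← zpow_mul, eq_inv_iff_mul_eq_one, ← zpow_add, hdvd]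
    have := dvd_mul_of_dvd_left h i
    rwa [show p * i + i = (1 + p) * i by ring]

/-- An involution of `S` outside `D ∪ D s` inverts `D`. -/
theorem invol_inverts (hD : (⁅T, T⁆ : Subgroup G) ≠ ⊥) {g : G} (hg : g ∈ T) (hgA : g ∈ A)
    (hgD : g ∉ ⁅T, T⁆) (hgs : g * s⁻¹ ∉ ⁅T, T⁆) (hgg : g * g = 1) {x : G} (hx : x ∈ ⁅T, T⁆) :
    g * x * g⁻¹ = x⁻¹ := by
  have hgen := H.gen hD hg hgA hgD hgs
  set k := g⁻¹ * (t * g * t⁻¹) with hk
  obtain ⟨i, rfl⟩ := hgen ▸ hx
  show g * k ^ i * g⁻¹ = (k ^ i)⁻¹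
  rw [← conj_zpow, ← inv_zpow]
  congr 1
  have hi : g⁻¹ = g := inv_eq_of_mul_eq_one_right hgg
  have h1 : t * g * t⁻¹ * (t * g * t⁻¹) = 1 := by
    rw [show t * g * t⁻¹ * (t * g * t⁻¹) = t * (g * g) * t⁻¹ by group, hgg, mul_one, mul_inv_cancel]
  rw [show t * g * t⁻¹ = g * k by rw [hk]; group] at h1
  rw [hi]
  exact eq_inv_of_mul_eq_one_left (by simpa [mul_assoc] using h1)

/-- Squares in `T` lie in `D` when those in `S` do. -/
theorem sq_T (hS : ∀ x ∈ T, x ∈ A → x * x ∈ ⁅T, T⁆) {x : G} (hx : x ∈ T) : x * x ∈ ⁅T, T⁆ := by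
  rcases H.mem_A_or (x := x) with h | h
  · exact hS x hx h
  · have h1 := hS _ (T.mul_mem hx H.tT) h
    have h2 := H.comm_mem (T.inv_mem (T.mul_mem hx H.tT)) H.tT
    have h3 := mul_mem h1 h2
    rwa [show x * t * (x * t) * ((x * t)⁻¹ * t * (x * t)⁻¹⁻¹ * t⁻¹) = x * (t * t) * x * (t * t⁻¹) by group,
      H.tt, mul_one, mul_inv_cancel, mul_one] at h3

/-- An involution centralizing a square root of `z` in `T` is not conjugate to `z`. -/
theorem not_z (hsqT : ∀ x ∈ T, x * x ∈ ⁅T, T⁆) {y v g : G} (hy : y ≠ s * s) (hv : v * v = s * s)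
    (hvT : g⁻¹ * v * g ∈ T) : g⁻¹ * y * g ≠ s * s := by
  intro h
  have h1 := hsqT _ hvT
  have h2 : g⁻¹ * v * g * (g⁻¹ * v * g) = g⁻¹ * (s * s) * g := by rw [← hv]; group
  rw [h2] at h1
  rcases H.D_invol h1 (by
    rw [show g⁻¹ * (s * s) * g * (g⁻¹ * (s * s) * g) = g⁻¹ * (s * s * (s * s)) * g by group, H.z_sq, mul_one,
      inv_mul_cancel]) with h3 | h3
  · refine H.s_sq_ne ?_
    calc s * s = g * (g⁻¹ * (s * s) * g) * g⁻¹ := by group
      _ = 1 := by rw [h3, mul_one, mul_inv_cancel]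
  · refine hy ?_
    calc y = g * (g⁻¹ * y * g) * g⁻¹ := by group
      _ = g * (g⁻¹ * (s * s) * g) * g⁻¹ := by rw [h, h3]
      _ = s * s := by group

theorem invol_ne_one {g x : G} (h : x ≠ 1) : g⁻¹ * x * g ≠ 1 := fun e => h (by
  calc x = g * (g⁻¹ * x * g) * g⁻¹ := by group
    _ = 1 := by rw [e, mul_one, mul_inv_cancel])

theorem invol_sq {g x : G} (h : x * x = 1) : g⁻¹ * x * g * (g⁻¹ * x * g) = 1 := by
  rw [show g⁻¹ * x * g * (g⁻¹ * x * g) = g⁻¹ * (x * x) * g by group, h, mul_one, inv_mul_cancel]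

/-- If `s` centralizes `D` there is no involution outside `D ∪ D s`. -/
theorem no_outside_invol (hD : (⁅T, T⁆ : Subgroup G) ≠ ⊥) (hcs : ∀ x ∈ ⁅T, T⁆, s * x * s⁻¹ = x)
    {g : G} (hg : g ∈ T) (hgA : g ∈ A) (hgD : g ∉ ⁅T, T⁆) (hgs : g * s⁻¹ ∉ ⁅T, T⁆) (hgg : g * g = 1) :
    False := by
  have hz := H.z_mem_D hD
  have hg1 : g ≠ 1 := fun h => hgD (h ▸ one_mem _)
  have hgz : g ≠ s * s := fun h => hgD (h ▸ hz)
  have hgi : g⁻¹ = g := inv_eq_of_mul_eq_one_right hgg
  have hginv := fun x (hx : x ∈ ⁅T, T⁆) => H.invol_inverts hD hg hgA hgD hgs hgg hx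
  set c := g * s * g⁻¹ * s⁻¹ with hc
  have hcD : c ∈ ⁅T, T⁆ := H.comm_mem hg H.sT
  have hcc : c * c = 1 := by
    have h := H.rel_sq hg
    rwa [← hc, hcs c hcD] at h
  have hgsg : g * s * g⁻¹ = c * s := by rw [hc]; group
  have hgs2 : g * s * (g * s) = c * (s * s) := by
    calc g * s * (g * s) = g * s * g⁻¹ * s := by rw [hgi, mul_assoc, mul_assoc, mul_assoc]
      _ = _ := by rw [hgsg, mul_assoc]
  -- the squares
  have hsq : ∀ x ∈ T, x ∈ A → x * x ∈ ⁅T, T⁆ := by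
    intro x hx hxA
    rcases H.four_cosets hD hg hgA hgD hgs hx hxA with h | h | h | h
    · exact mul_mem h h
    · have e : x * x = x * s⁻¹ * (s * (x * s⁻¹) * s⁻¹) * (s * s) := by group
      rw [e, hcs _ h]
      exact mul_mem (mul_mem h h) hz
    · have e : x * x = x * g⁻¹ * (g * (x * g⁻¹) * g⁻¹) * (g * g) := by group
      rw [e, hginv _ h, hgg, mul_inv_cancel, mul_one]
      exact one_mem _
    · have e : x * x = x * (g * s)⁻¹ * (g * (s * (x * (g * s)⁻¹) * s⁻¹) * g⁻¹) * (g * s * (g * s)) := by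
        group
      rw [e, hcs _ h, hginv _ h, mul_inv_cancel, one_mul, hgs2]
      exact mul_mem hcD hz
  have hsqT : ∀ x ∈ T, x * x ∈ ⁅T, T⁆ := fun x hx => H.sq_T hsq hx
  have hzc : ∀ {y : G}, y ∈ T → y * (s * s) = s * s * y := fun hy => H.z_central hy
  rcases H.D_invol hcD hcc with hc1 | hc1
  · -- `g` centralizes `s`
    rw [hc1, one_mul] at hgsg hgs2
    have hcomm : g * s = s * g := mul_inv_eq_iff_eq_mul.1 hgsg
    set U := zpowers g ⊔ zpowers s with hU
    have hUT : U ≤ T := sup_le (zpowers_le.2 hg) (zpowers_le.2 H.sT)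
    have hUc : U ≤ centralizer ({g} : Set G) := sup_le
      (zpowers_le.2 (mem_centralizer_singleton_iff.2 rfl))
      (zpowers_le.2 (mem_centralizer_singleton_iff.2 hcomm.symm))
    refine (H.elim_invol (a := g * s) (T.mul_mem hg H.sT) (A.mul_mem hgA H.sA) (by rw [hgs2]; exact hz)
        hg hgA hgg hg1 U (H.two.to_le hUT) (mem_sup_left (mem_zpowers g))
        (fun u hu => mem_centralizer_singleton_iff.1 (hUc hu)) fun x hxU hxT hxA => ?_).elim hgD fun h => ?_
    rotate_left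
    · rw [show g * (g * s)⁻¹ = g * s⁻¹ * g⁻¹ by group] at h
      refine H.s_notMem_D (inv_mem_iff.1 ?_)
      have h' := H.conj_D (T.inv_mem hg) h
      rwa [show g⁻¹ * (g * s⁻¹ * g⁻¹) * g⁻¹⁻¹ = s⁻¹ by group] at h'
    have hne := H.not_z hsqT (g := x) hgz rfl (hxU s (mem_sup_right (mem_zpowers s)))
    have hx1 := H.invol_ne_one (g := x) hg1
    have hxx := H.invol_sq (g := x) hgg
    set y := x⁻¹ * g * x
    rcases H.four_cosets hD hg hgA hgD hgs hxT hxA with h | h | h | h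
    · exact ((H.D_invol h hxx).elim hx1 hne).elim
    · refine Or.inr ?_
      have e : y * g⁻¹ * (g * s)⁻¹ = y * s⁻¹ := by
        rw [hcomm, mul_inv_rev, hgi, mul_assoc y, ← mul_assoc g, hgg, one_mul]
      rw [e]
      exact h
    · exact Or.inl h
    · exfalso
      have e : y * y = y * (g * s)⁻¹ * (g * (s * (y * (g * s)⁻¹) * s⁻¹) * g⁻¹) * (g * s * (g * s)) := by
        group
      rw [hcs _ h, hginv _ h, mul_inv_cancel, one_mul, hgs2, hxx] at e
      exact H.s_sq_ne e.symm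
  · rw [hc1] at hgsg hgs2
    rw [H.z_sq] at hgs2
    have hgen := H.gen hD hg hgA hgD hgs
    set k := g⁻¹ * (t * g * t⁻¹) with hk
    have hkD : k ∈ ⁅T, T⁆ := hgen ▸ mem_zpowers k
    have hk1 : k ≠ 1 := fun h => hD (by rw [hgen, h, zpowers_one_eq_bot])
    have hsgs : s * g * s⁻¹ = g * (s * s) := by
      calc s * g * s⁻¹ = g * (g⁻¹ * s * g) * s⁻¹ := by group
        _ = g * (g * s * g⁻¹) * s⁻¹ := by rw [hgi]
        _ = g * (s * s) := by rw [hgsg]; group
    by_cases hkk : k * k = 1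
    · -- order eight
      have hkz : k = s * s := (H.D_invol hkD hkk).resolve_left hk1
      set v := t * s with hv
      have hvv : v * v = s * s := by
        rw [hv, mul_assoc, ← mul_assoc s, ← H.ts, mul_assoc t s s, ← mul_assoc t t, H.tt, one_mul]
      have hvg : v * g = g * v := by
        refine mul_inv_eq_iff_eq_mul.1 ?_
        calc t * s * g * (t * s)⁻¹ = t * (s * g * s⁻¹) * t⁻¹ := by group
          _ = t * g * t⁻¹ * (t * (s * s) * t⁻¹) := by rw [hsgs]; group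
          _ = g * k * (t * (s * s) * t⁻¹) := by rw [hk]; group
          _ = g := by rw [hkz, hzc H.tT, mul_inv_cancel_right, mul_assoc, H.z_sq, mul_one]
      set U := zpowers g ⊔ zpowers v with hU
      have hUT : U ≤ T := sup_le (zpowers_le.2 hg) (zpowers_le.2 (T.mul_mem H.tT H.sT))
      have hUc : U ≤ centralizer ({g} : Set G) := sup_le
        (zpowers_le.2 (mem_centralizer_singleton_iff.2 rfl))
        (zpowers_le.2 (mem_centralizer_singleton_iff.2 hvg))
      refine (H.elim_invol (a := s) H.sT H.sA hz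
          hg hgA hgg hg1 U (H.two.to_le hUT) (mem_sup_left (mem_zpowers g))
          (fun u hu => mem_centralizer_singleton_iff.1 (hUc hu)) fun x hxU hxT hxA => ?_).elim hgD fun h => ?_
      rotate_left
      · exact hgs h
      have hne := H.not_z hsqT (g := x) hgz hvv (hxU v (mem_sup_right (mem_zpowers v)))
      have hx1 := H.invol_ne_one (g := x) hg1
      have hxx := H.invol_sq (g := x) hgg
      set y := x⁻¹ * g * x
      have hD2 : ∀ e ∈ ⁅T, T⁆, e * e = 1 := fun e he => by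
        obtain ⟨i, rfl⟩ := hgen ▸ he
        show k ^ i * k ^ i = 1
        rw [← (Commute.refl k).mul_zpow, hkk, one_zpow]
      rcases H.four_cosets hD hg hgA hgD hgs hxT hxA with h | h | h | h
      · exact ((H.D_invol h hxx).elim hx1 hne).elim
      · exfalso
        have e : y * y = y * s⁻¹ * (s * (y * s⁻¹) * s⁻¹) * (s * s) := by group
        rw [hcs _ h, hD2 _ h, one_mul, hxx] at e
        exact H.s_sq_ne e.symm
      · exact Or.inl h
      · refine Or.inr ?_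
        have e : y * g⁻¹ * s⁻¹ = y * (g * s)⁻¹ * (g * s * g⁻¹ * s⁻¹) := by group
        rw [e, hgsg, mul_inv_cancel_right]
        exact mul_mem h hz
    · -- an element of `D` squaring to `z`
      obtain ⟨n, hn⟩ := H.orderOf_two_pow (H.D_le_T hkD)
      obtain ⟨n, rfl⟩ : ∃ j, n = j + 2 := by
        refine ⟨n - 2, ?_⟩
        rcases n with _ | _ | n
        · exact absurd (orderOf_eq_one_iff.1 hn) hk1
        · exact absurd (by rw [← pow_two, ← show orderOf k = 2 by simpa using hn, pow_orderOf_eq_one]) hkk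
        · omega
      set e := k ^ 2 ^ n with he
      have heD : e ∈ ⁅T, T⁆ := pow_mem hkD _
      have hee : e * e = s * s := by
        rw [← pow_two, he, ← pow_mul, ← pow_succ]
        refine (H.D_invol (pow_mem hkD _) ?_).resolve_left fun h => ?_
        · rw [← pow_add, ← two_mul, ← pow_succ', ← hn, pow_orderOf_eq_one]
        · have := Nat.le_of_dvd (by positivity) (orderOf_dvd_of_pow_eq_one h)
          rw [hn] at this
          exact absurd ((Nat.pow_le_pow_iff_right (le_refl 2)).1 this) (by omega)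
      set f := s * e with hf
      have hse : s * e = e * s := mul_inv_eq_iff_eq_mul.1 (hcs e heD)
      have hff : f * f = 1 := by
        calc f * f = s * (e * s) * e := by rw [hf]; group
          _ = s * s * (e * e) := by rw [← hse]; group
          _ = 1 := by rw [hee, H.z_sq]
      have hfT : f ∈ T := T.mul_mem H.sT (H.D_le_T heD)
      have hfA : f ∈ A := A.mul_mem H.sA (H.D_le_A heD)
      have hfs : ∀ {w : G}, w * s⁻¹ ∈ ⁅T, T⁆ → w * f⁻¹ ∈ ⁅T, T⁆ := fun {w} hw => by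
        have := mul_mem hw (H.conj_D H.sT (inv_mem heD))
        rwa [show w * s⁻¹ * (s * e⁻¹ * s⁻¹) = w * f⁻¹ by rw [hf]; group] at this
      have hfD : f ∉ ⁅T, T⁆ := fun h => H.s_notMem_D (by
        have := mul_mem h (inv_mem heD)
        rwa [hf, mul_inv_cancel_right] at this)
      have hf1 : f ≠ 1 := fun h => hfD (h ▸ one_mem _)
      have hfz : f ≠ s * s := fun h => hfD (h ▸ hz)
      have hfg : g * f = f * g := by
        refine mul_inv_eq_iff_eq_mul.1 ?_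
        calc g * (s * e) * g⁻¹ = g * s * g⁻¹ * (g * e * g⁻¹) := by group
          _ = s * (s * s * e⁻¹) := by rw [hgsg, hginv e heD, ← hzc H.sT, mul_assoc s (s * s)]
          _ = s * e := by rw [← hee]; group
      have hfc : ∀ x ∈ T ⊓ A, x * f = f * x := by
        intro x hx
        have hDf : ∀ d ∈ ⁅T, T⁆, Commute d f := fun d hd =>
          ((show Commute s d from mul_inv_eq_iff_eq_mul.1 (hcs d hd)).symm).mul_right (H.D_comm hd heD)
        have hsf : Commute s f := (Commute.refl s).mul_right hse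
        rcases H.four_cosets hD hg hgA hgD hgs hx.1 hx.2 with h | h | h | h
        · exact (hDf x h).eq
        · simpa using ((hDf _ h).mul_left hsf).eq
        · simpa using ((hDf _ h).mul_left (show Commute g f from hfg)).eq
        · have h5 := ((hDf _ h).mul_left ((show Commute g f from hfg).mul_left hsf)).eq
          rwa [inv_mul_cancel_right] at h5
      refine (H.elim_invol (a := g) hg hgA (by rw [hgg]; exact one_mem _)
          hfT hfA hff hf1 (T ⊓ A) (H.two.to_le inf_le_left) ⟨hfT, hfA⟩ hfc fun x hxU hxT hxA => ?_).elim hfD fun h => ?_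
      rotate_left
      · refine hgs ?_
        have h2 := mul_mem (inv_mem h) (H.conj_D H.sT heD)
        rwa [hf, show (s * e * g⁻¹)⁻¹ * (s * e * s⁻¹) = g * s⁻¹ by group] at h2
      have hne := H.not_z hsqT (g := x) hfz hee (hxU e ⟨H.D_le_T heD, H.D_le_A heD⟩)
      have hx1 := H.invol_ne_one (g := x) hf1
      have hxx := H.invol_sq (g := x) hff
      -- the image is central in `S`
      have hyk : x⁻¹ * f * x * k = k * (x⁻¹ * f * x) := by
        have himg : (T ⊓ A).map (MulAut.conj x⁻¹).toMonoidHom = T ⊓ A := by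
          refine eq_of_le_of_card_ge ?_ (card_map_of_injective (MulAut.conj x⁻¹).injective).ge
          rintro _ ⟨w, hw, rfl⟩
          simp only [MulEquiv.coe_toMonoidHom, MulAut.conj_apply, inv_inv]
          exact ⟨hxU w hw, H.conj_mem_A hw.2⟩
        have hk' : k ∈ (T ⊓ A).map (MulAut.conj x⁻¹).toMonoidHom := by
          rw [himg]; exact ⟨H.D_le_T hkD, H.D_le_A hkD⟩
        obtain ⟨w, hw, hwk⟩ := hk'
        simp only [MulEquiv.coe_toMonoidHom, MulAut.conj_apply, inv_inv] at hwk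
        rw [← hwk]
        calc x⁻¹ * f * x * (x⁻¹ * w * x) = x⁻¹ * (f * w) * x := by group
          _ = x⁻¹ * (w * f) * x := by rw [hfc w hw]
          _ = _ := by group
      set y := x⁻¹ * f * x
      rcases H.four_cosets hD hg hgA hgD hgs hxT hxA with h | h | h | h
      · exact ((H.D_invol h hxx).elim hx1 hne).elim
      · exact Or.inl (hfs h)
      · exfalso
        refine hkk ?_
        have h2 : g * k * g⁻¹ = k := by
          have hcw : Commute (y * g⁻¹) k := H.D_comm h hkD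
          have : Commute ((y * g⁻¹)⁻¹ * y) k := hcw.inv_left.mul_left hyk
          rw [show (y * g⁻¹)⁻¹ * y = g by group] at this
          rw [this.eq, mul_inv_cancel_right]
        rw [hginv k hkD] at h2
        nth_rewrite 1 [← h2]
        exact inv_mul_cancel k
      · refine Or.inr ?_
        -- `y ∈ D g s`, so `y f⁻¹ ∈ D g`
        set w := y * (g * s)⁻¹
        have e2 : y * f⁻¹ * g⁻¹ = w * (g * (s * e⁻¹ * s⁻¹) * g⁻¹) := by
          simp only [w, hf]; group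
        rw [e2]
        exact mul_mem h (H.conj_D hg (H.conj_D H.sT (inv_mem heD)))

end Hyp

end Cfsg.Agent.CyclicFourCent
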