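import Cfsg.Agent.Lib.CyclicFourCent.Cases
import Cfsg.Agent.S0949

/-!
A perfect group with an outer involution whose centralizer has cyclic Sylow 2-subgroups of order four
has 2-rank one.
-/

set_option autoImplicit false
set_option linter.style.haveILetI false
set_option linter.unusedSectionVars false

namespace Cfsg.Agent.CyclicFourCent

open Subgroup

universe u

/-- A perfect group has no Sylow 2-subgroup of type `Z₄ × Z₄`. -/
theorem no_four_four {K : Type u} [Group K] [Finite K] (hperf : commutator K = ⊤) (P : Sylow 2 K)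
    (e : (P : Subgroup K) ≃* Multiplicative (ZMod (2 ^ 2) × ZMod (2 ^ 2))) : False := by
  classical
  haveI : Fact (Nat.Prime 2) := ⟨Nat.prime_two⟩
  obtain ⟨N, ⟨hNn, hNo⟩, hmax⟩ := Set.Finite.exists_maximal
    (s := {N : Subgroup K | N.Normal ∧ Odd (Nat.card N)}) (Set.toFinite _) ⟨⊥, inferInstance, by simp⟩
  haveI := hNn
  set π := QuotientGroup.mk' N with hπ
  have hπs : Function.Surjective π := QuotientGroup.mk'_surjective _
  set Q := P.mapSurjective hπs with hQ
  have hQc : (Q : Subgroup (K ⧸ N)) = (P : Subgroup K).map π := Sylow.coe_mapSurjective hπs P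
  have hinj : ∀ x ∈ (P : Subgroup K), π x = 1 → x = 1 := by
    intro x hx h
    have hxN : x ∈ N := (QuotientGroup.eq_one_iff x).1 h
    obtain ⟨j, hj⟩ := P.2 ⟨x, hx⟩
    have h1 : orderOf x ∣ 2 ^ j := orderOf_dvd_of_pow_eq_one (congrArg Subtype.val hj)
    have h2 : orderOf x ∣ Nat.card N := by
      have := orderOf_dvd_natCard (⟨x, hxN⟩ : N)
      rwa [← orderOf_coe] at this
    exact orderOf_eq_one_iff.1 (Nat.eq_one_of_dvd_coprimes
      ((Nat.coprime_two_left.2 hNo).pow_left j) h1 h2)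
  let f : (P : Subgroup K) →* (P : Subgroup K).map π := π.subgroupMap (P : Subgroup K)
  have hfb : Function.Bijective f := ⟨(injective_iff_map_eq_one f).2 fun x h =>
    Subtype.ext (hinj x x.2 (congrArg Subtype.val h)), π.subgroupMap_surjective _⟩
  let e' : (Q : Subgroup (K ⧸ N)) ≃* Multiplicative (ZMod (2 ^ 2) × ZMod (2 ^ 2)) :=
    ((MulEquiv.subgroupCongr hQc).trans (MulEquiv.ofBijective f hfb).symm).trans e
  obtain ⟨hQn, -, hidx⟩ := S0949.result Q 2 le_rfl e' fun M hM hMo => by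
    haveI := hM
    have hle : N ≤ M.comap π := fun x hx => by
      rw [mem_comap, hπ, QuotientGroup.mk'_apply, (QuotientGroup.eq_one_iff x).2 hx]
      exact M.one_mem
    have hodd : Odd (Nat.card (M.comap π : Subgroup K)) := by
      have h := (N.subgroupOf (M.comap π)).card_eq_card_quotient_mul_card_subgroup
      rw [Nat.card_congr (subgroupOfEquivOfLe hle).toEquiv] at h
      rw [h, Nat.odd_mul]
      refine ⟨?_, hNo⟩
      let g : (M.comap π : Subgroup K) →* M := π.subgroupComap M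
      have hgs : Function.Surjective g := fun y => by
        obtain ⟨x, hx⟩ := hπs y
        exact ⟨⟨x, by rw [mem_comap, hx]; exact y.2⟩, Subtype.ext hx⟩
      have hker : g.ker = N.subgroupOf (M.comap π) := by
        ext x
        rw [MonoidHom.mem_ker, mem_subgroupOf, ← QuotientGroup.eq_one_iff]
        exact ⟨fun h => congrArg Subtype.val h, fun h => Subtype.ext h⟩
      rw [← hker, Nat.card_congr (QuotientGroup.quotientKerEquivOfSurjective g hgs).toEquiv]
      exact hMo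
    have heq : M.comap π ≤ N := hmax ⟨inferInstance, hodd⟩ hle
    rw [eq_bot_iff]
    intro y hy
    obtain ⟨x, rfl⟩ := hπs y
    rw [mem_bot, hπ, QuotientGroup.mk'_apply, QuotientGroup.eq_one_iff]
    exact heq hy
  -- the quotient is solvable, hence trivial
  haveI := hQn
  have hcomm : commutator (K ⧸ N) = ⊤ := by
    rw [_root_.commutator_def, ← map_top_of_surjective π hπs, ← map_commutator, ← _root_.commutator_def, hperf]
  have hQtop : (Q : Subgroup (K ⧸ N)) = ⊤ := by
    rcases hidx with h | h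
    · exact index_eq_one.1 h
    · exfalso
      haveI : Fact (Nat.Prime 3) := ⟨Nat.prime_three⟩
      have hc : IsCyclic ((K ⧸ N) ⧸ (Q : Subgroup (K ⧸ N))) := isCyclic_of_prime_card (p := 3) h
      letI := hc.commGroup
      have hle := Abelianization.commutator_subset_ker (QuotientGroup.mk' (Q : Subgroup (K ⧸ N)))
      rw [hcomm, QuotientGroup.ker_mk', top_le_iff] at hle
      rw [hle, index_top] at h
      norm_num at h
  have h16 : Nat.card (Q : Subgroup (K ⧸ N)) = 2 ^ 2 * 2 ^ 2 := by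
    rw [Nat.card_congr e'.toEquiv, Nat.card_congr Multiplicative.toAdd, Nat.card_prod, Nat.card_zmod]
  have hab : ∀ a b : K ⧸ N, a * b = b * a := fun a b => by
    have ha : a ∈ (Q : Subgroup (K ⧸ N)) := by rw [hQtop]; exact mem_top a
    have hb : b ∈ (Q : Subgroup (K ⧸ N)) := by rw [hQtop]; exact mem_top b
    have h : (⟨a, ha⟩ * ⟨b, hb⟩ : (Q : Subgroup (K ⧸ N))) = ⟨b, hb⟩ * ⟨a, ha⟩ :=
      e'.injective (by rw [map_mul, map_mul, mul_comm])
    exact congrArg Subtype.val h
  have hbot : commutator (K ⧸ N) = ⊥ := by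
    rw [_root_.commutator_def, eq_bot_iff, commutator_le]
    exact fun a _ b _ => mem_bot.2 (commutatorElement_eq_one_iff_commute.2 (hab a b))
  rw [hQtop, ← hcomm, hbot, card_bot] at h16
  norm_num at h16

variable {G : Type u} [Group G] [Finite G]

namespace Hyp

variable {A T : Subgroup G} {t s : G} (H : Hyp A T t s)

include H

/-- No element of order four of `D` is conjugate to `s` when `s` inverts `D`. -/
theorem no_conj_D (hinv : ∀ x ∈ ⁅T, T⁆, s * x * s⁻¹ = x⁻¹) {x y : G} (hy : y ∈ ⁅T, T⁆)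
    (hyy : y * y = s * s) (hxy : x⁻¹ * s * x = y) : False := by
  haveI : Fact (Nat.Prime 2) := ⟨Nat.prime_two⟩
  have hyT := H.D_le_T hy
  have hyA := H.D_le_A hy
  have hsy : s * y * s⁻¹ ≠ y := fun h => by
    rw [hinv y hy] at h
    refine H.s_sq_ne ?_
    rw [← hyy]
    nth_rewrite 1 [← h]
    exact inv_mul_cancel y
  set Z := centralizer ({y} : Set G) with hZ
  set C := T ⊓ Z with hC
  have hCi : (C.subgroupOf T).index = 2 := by
    rw [index_eq_two_iff]
    refine ⟨⟨s, H.sT⟩, fun b => ?_⟩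
    simp only [hC, mem_subgroupOf, mem_inf, coe_mul, b.2, T.mul_mem b.2 H.sT, true_and]
    have key : ∀ w ∈ T, w * y * w⁻¹ = y ∨ w * y * w⁻¹ = y⁻¹ := fun w hw => by
      have hwy := H.conj_D hw hy
      have hc := H.D_comm hwy hy
      have hs2 : w * y * w⁻¹ * y * (w * y * w⁻¹ * y) = 1 := by
        calc w * y * w⁻¹ * y * (w * y * w⁻¹ * y) = w * y * w⁻¹ * (y * (w * y * w⁻¹)) * y := by group
          _ = w * y * w⁻¹ * (w * y * w⁻¹ * y) * y := by rw [hc]
          _ = w * (y * y) * w⁻¹ * (y * y) := by group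
          _ = 1 := by rw [hyy, H.z_central hw, mul_inv_cancel_right, H.z_sq]
      rcases H.D_invol (mul_mem hwy hy) hs2 with h | h
      · exact Or.inr (eq_inv_of_mul_eq_one_left h)
      · exact Or.inl (mul_right_cancel (h.trans hyy.symm))
    have hb : (b : G) ∈ Z ↔ (b : G) * y * (b : G)⁻¹ = y := by
      rw [hZ, mem_centralizer_singleton_iff, mul_inv_eq_iff_eq_mul]
    have hbs : (b : G) * s ∈ Z ↔ (b : G) * y⁻¹ * (b : G)⁻¹ = y := by
      rw [hZ, mem_centralizer_singleton_iff, ← hinv y hy, ← mul_inv_eq_iff_eq_mul]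
      group
    rw [hb, hbs]
    rcases key b b.2 with h | h
    · refine Or.inr ⟨h, fun h2 => hsy ?_⟩
      rw [hinv y hy]
      calc y⁻¹ = (b : G)⁻¹ * ((b : G) * y⁻¹ * (b : G)⁻¹) * b := by group
        _ = (b : G)⁻¹ * ((b : G) * y * (b : G)⁻¹) * b := by rw [h2, h]
        _ = y := by group
    · refine Or.inl ⟨?_, fun h2 => hsy ?_⟩
      · rw [show (b : G) * y⁻¹ * (b : G)⁻¹ = ((b : G) * y * (b : G)⁻¹)⁻¹ by group, h, inv_inv]
      · rw [hinv y hy]
        exact h.symm.trans h2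
  have hCc : Nat.card C * 2 = Nat.card T := by
    have h := (C.subgroupOf T).card_mul_index
    rwa [hCi, Nat.card_congr (subgroupOfEquivOfLe inf_le_left).toEquiv] at h
  let T' : Sylow 2 G := H.two.toSylow (by
    rw [← even_iff_two_dvd]; exact Nat.not_even_iff_odd.2 H.odd)
  have hT' : (T' : Subgroup G) = T := rfl
  -- `C` is a Sylow subgroup of the centralizer of `y`
  have hmax : ∀ P : Subgroup G, IsPGroup 2 P → P ≤ Z → C ≤ P → P = C := by
    intro P hP hPZ hCP
    refine (eq_of_le_of_card_ge hCP ?_).symm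
    obtain ⟨R, hR⟩ := hP.exists_le_sylow
    obtain ⟨a, ha⟩ := MulAction.exists_smul_eq G R T'
    have haR : (R : Subgroup G).map (MulAut.conj a).toMonoidHom = T := by
      rw [← hT', ← ha, Sylow.coe_subgroup_smul]; rfl
    have hle : P.map (MulAut.conj a).toMonoidHom ≤ T := haR ▸ map_mono hR
    have hcP : Nat.card (P.map (MulAut.conj a).toMonoidHom) = Nat.card P :=
      card_map_of_injective (MulAut.conj a).injective
    obtain ⟨j, hj⟩ := card_dvd_of_le hCP
    have hlt : Nat.card P < Nat.card T := by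
      refine lt_of_le_of_ne (hcP ▸ card_le_of_le hle) fun heq => hsy ?_
      have himg := eq_of_le_of_card_ge hle (by rw [hcP, heq])
      set y' := a * y * a⁻¹ with hy'
      have hy'T : y' ∈ T := hle ⟨y, hCP ⟨hyT, mem_centralizer_singleton_iff.2 rfl⟩, rfl⟩
      have hy'c : ∀ w ∈ T, w * y' = y' * w := fun w hw => by
        rw [← himg] at hw
        obtain ⟨v, hv, rfl⟩ := hw
        simp only [MulEquiv.coe_toMonoidHom, MulAut.conj_apply, hy']
        have := mem_centralizer_singleton_iff.1 (hPZ hv)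
        calc a * v * a⁻¹ * (a * y * a⁻¹) = a * (v * y) * a⁻¹ := by group
          _ = _ := by rw [this]; group
      have hy'A : y' ∈ A := H.normA.conj_mem y hyA a
      have hy'4 : y' * y' ≠ 1 := fun h => H.s_sq_ne (by
        rw [← hyy, show y * y = a⁻¹ * (y' * y') * a by rw [hy']; group, h, mul_one, inv_mul_cancel])
      have hsc : Commute s y := by
        rcases TwoFus.order_four_cases H.s4 (H.cent hy'T hy'A (hy'c t H.tT).symm) with h | h | h | h
        · exact absurd (by rw [h, mul_one]) hy'4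
        · exact (h ▸ hy'c y hyT).symm
        · exact absurd (by rw [h]; exact H.z_sq) hy'4
        · have h5 : Commute y s⁻¹ := h ▸ hy'c y hyT
          exact (Commute.inv_right_iff.1 h5).symm
      rw [hsc.eq, mul_inv_cancel_right]
    rcases Nat.lt_or_ge j 2 with hj2 | hj2
    · calc Nat.card P = Nat.card C * j := hj
        _ ≤ Nat.card C * 1 := Nat.mul_le_mul_left _ (by omega)
        _ = Nat.card C := mul_one _
    · exfalso
      have : Nat.card C * 2 ≤ Nat.card C * j := Nat.mul_le_mul_left _ hj2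
      omega
  let Cs : Sylow 2 Z :=
    { C.subgroupOf Z with
      isPGroup' := IsPGroup.comap_of_injective (H.two.to_le inf_le_left) _ Z.subtype_injective
      is_maximal' := fun {Q} hQ hle => by
        have hle' : C.subgroupOf Z ≤ Q := hle
        have h1 := hmax (Q.map Z.subtype) (hQ.map _) (map_subtype_le _) (fun w hw =>
          ⟨⟨w, hw.2⟩, hle' hw, rfl⟩)
        refine le_antisymm (fun w hw => ?_) hle'
        show (w : G) ∈ C
        rw [← h1]
        exact ⟨w, hw, rfl⟩ }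
  have hCs : (Cs : Subgroup Z) = C.subgroupOf Z := rfl
  have ht'Z : x⁻¹ * t * x ∈ Z := by
    rw [hZ, mem_centralizer_singleton_iff, ← hxy,
      show x⁻¹ * t * x * (x⁻¹ * s * x) = x⁻¹ * (t * s) * x by group, H.ts]
    group
  set w : Z := ⟨x⁻¹ * t * x, ht'Z⟩ with hw
  have hw2 : w * w = 1 := Subtype.ext (invol_sq' H.tt)
  obtain ⟨R, hR⟩ := (IsPGroup.of_card_dvd_pow (n := 1) (G := zpowers w) (p := 2) (by
    rw [Nat.card_zpowers]
    exact orderOf_dvd_of_pow_eq_one (by rw [pow_one, pow_two, hw2]))).exists_le_sylow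
  obtain ⟨c, hc⟩ := MulAction.exists_smul_eq Z R Cs
  have hu : c * w * c⁻¹ ∈ (Cs : Subgroup Z) := by
    rw [← hc, Sylow.coe_subgroup_smul]
    exact ⟨w, hR (mem_zpowers w), rfl⟩
  rw [hCs, mem_subgroupOf] at hu
  set g : G := (c : G) * x⁻¹ with hg
  have hgu : ((c * w * c⁻¹ : Z) : G) = g * t * g⁻¹ := by
    simp only [coe_mul, coe_inv, hg, hw]; group
  rw [hgu] at hu
  have hinv' := H.inverts hu.1
    (by rw [show g * t * g⁻¹ * (g * t * g⁻¹) = g * (t * t) * g⁻¹ by group, H.tt, mul_one, mul_inv_cancel])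
    (fun P hP hP2 hPc => by
      have := H.small (P.map (MulAut.conj g⁻¹).toMonoidHom) ?_ (hP2.map _) ?_
      · rwa [card_map_of_injective (MulAut.conj g⁻¹).injective] at this
      · rintro _ ⟨v, hv, rfl⟩
        simpa using H.normA.conj_mem v (hP hv) g⁻¹
      · rintro _ ⟨v, hv, rfl⟩
        simp only [MulEquiv.coe_toMonoidHom, MulAut.conj_apply, inv_inv]
        calc g⁻¹ * v * g * t = g⁻¹ * (v * (g * t * g⁻¹)) * g := by group
          _ = _ := by rw [hPc v hv]; group) hy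
  have hcu := mem_centralizer_singleton_iff.1 hu.2
  rw [hcu, mul_inv_cancel_right] at hinv'
  exact hsy (by rw [hinv y hy]; exact hinv'.symm)
where
  invol_sq' {a : G} (h : a * a = 1) {x : G} : x⁻¹ * a * x * (x⁻¹ * a * x) = 1 := by
    rw [show x⁻¹ * a * x * (x⁻¹ * a * x) = x⁻¹ * (a * a) * x by group, h, mul_one, inv_mul_cancel]

/-- If `s` inverts `D` without centralizing it there is no involution outside `D ∪ D s`. -/
theorem no_outside_invol_inv (hD : (⁅T, T⁆ : Subgroup G) ≠ ⊥) (hinv : ∀ x ∈ ⁅T, T⁆, s * x * s⁻¹ = x⁻¹)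
    (hne : ¬ ∀ x ∈ ⁅T, T⁆, s * x * s⁻¹ = x)
    {g : G} (hg : g ∈ T) (hgA : g ∈ A) (hgD : g ∉ ⁅T, T⁆) (hgs : g * s⁻¹ ∉ ⁅T, T⁆) (hgg : g * g = 1) :
    False := by
  have hz := H.z_mem_D hD
  have hgi : g⁻¹ = g := inv_eq_of_mul_eq_one_right hgg
  have hginv := fun x (hx : x ∈ ⁅T, T⁆) => H.invol_inverts hD hg hgA hgD hgs hgg hx
  have hgen := H.gen hD hg hgA hgD hgs
  have hrel := H.rel hg
  set k := g⁻¹ * (t * g * t⁻¹) with hk
  have hkD : k ∈ ⁅T, T⁆ := hgen ▸ mem_zpowers k
  have hkk : k * k ≠ 1 := fun h => hne fun x hx => by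
    obtain ⟨i, rfl⟩ := hgen ▸ hx
    rw [hinv _ (zpow_mem hkD i)]
    show (k ^ i)⁻¹ = k ^ i
    rw [← inv_zpow, inv_eq_of_mul_eq_one_right h]
  obtain ⟨n, hn⟩ := H.orderOf_two_pow (H.D_le_T hkD)
  obtain ⟨n, rfl⟩ : ∃ j, n = j + 2 := by
    refine ⟨n - 2, ?_⟩
    rcases n with _ | _ | n
    · exact absurd (by rw [orderOf_eq_one_iff.1 hn, mul_one]) hkk
    · exact absurd (by rw [← pow_two, ← show orderOf k = 2 by simpa using hn, pow_orderOf_eq_one]) hkk
    · omega
  set e₀ := k ^ 2 ^ n with he₀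
  have he₀D : e₀ ∈ ⁅T, T⁆ := pow_mem hkD _
  have hee : e₀ * e₀ = s * s := by
    rw [← pow_two, he₀, ← pow_mul, ← pow_succ]
    refine (H.D_invol (pow_mem hkD _) ?_).resolve_left fun h => ?_
    · rw [← pow_add, ← two_mul, ← pow_succ', ← hn, pow_orderOf_eq_one]
    · have := Nat.le_of_dvd (by positivity) (orderOf_dvd_of_pow_eq_one h)
      rw [hn] at this
      exact absurd ((Nat.pow_le_pow_iff_right (le_refl 2)).1 this) (by omega)
  have hnsq : ∀ w ∈ ⁅T, T⁆, k ≠ w * w := by
    intro w hw h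
    obtain ⟨j, rfl⟩ := hgen ▸ hw
    have h1 : k ^ (2 * j - 1) = 1 := by
      rw [zpow_sub, zpow_one, two_mul, zpow_add, mul_inv_eq_one]
      exact h.symm
    rw [← orderOf_dvd_iff_zpow_eq_one, hn] at h1
    push_cast at h1
    have h2 : (2 : ℤ) ∣ 2 * j - 1 := (dvd_pow_self (2 : ℤ) (by omega : n + 2 ≠ 0)).trans h1
    omega
  set c := g * s * g⁻¹ * s⁻¹ with hc
  have hcD : c ∈ ⁅T, T⁆ := H.comm_mem hg H.sT
  have hcomm := fun {a b : G} (ha : a ∈ ⁅T, T⁆) (hb : b ∈ ⁅T, T⁆) => H.D_comm ha hb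
  have hck : c * k⁻¹ = 1 ∨ c * k⁻¹ = s * s := by
    refine H.D_invol (mul_mem hcD (inv_mem hkD)) ?_
    have h : k⁻¹ * k⁻¹ * c * c = 1 := by
      have h0 := hrel
      rw [hinv k hkD, inv_inv, hginv _ (mul_mem hkD hkD), mul_inv_rev] at h0
      exact h0
    calc c * k⁻¹ * (c * k⁻¹) = k⁻¹ * c * (k⁻¹ * c) := by rw [hcomm hcD (inv_mem hkD)]
      _ = k⁻¹ * (c * k⁻¹) * c := by group
      _ = k⁻¹ * k⁻¹ * c * c := by rw [hcomm hcD (inv_mem hkD)]; group
      _ = 1 := h
  have hgs2 : g * s * (g * s) = c * (s * s) := by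
    calc g * s * (g * s) = g * s * g⁻¹ * s := by rw [hgi, mul_assoc, mul_assoc, mul_assoc]
      _ = _ := by rw [hc]; group
  -- the squares of the elements of `S`
  have hs_sq : ∀ {w : G}, w * s⁻¹ ∈ ⁅T, T⁆ → w * w = s * s := fun {w} h => by
    have e : w * w = w * s⁻¹ * (s * (w * s⁻¹) * s⁻¹) * (s * s) := by group
    rw [e, hinv _ h, mul_inv_cancel, one_mul]
  have hg_sq : ∀ {w : G}, w * g⁻¹ ∈ ⁅T, T⁆ → w * w = 1 := fun {w} h => by
    have e : w * w = w * g⁻¹ * (g * (w * g⁻¹) * g⁻¹) * (g * g) := by group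
    rw [e, hginv _ h, hgg, mul_inv_cancel, mul_one]
  have hgs_sq : ∀ {w : G}, w * (g * s)⁻¹ ∈ ⁅T, T⁆ → w * w ≠ 1 ∧ w * w ≠ s * s := fun {w} h => by
    set e := w * (g * s)⁻¹ with he
    have hw : w * w = e * e * (c * (s * s)) := by
      calc w * w = e * (g * (s * e * s⁻¹) * g⁻¹) * (g * s * (g * s)) := by rw [he]; group
        _ = _ := by rw [hinv e h, hginv _ (inv_mem h), inv_inv, hgs2]
    have key : ∀ a ∈ ⁅T, T⁆, c = a * a → False := fun a ha hca => by
      rcases hck with hh | hh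
      · exact hnsq a ha ((mul_inv_eq_one.1 hh).symm.trans hca)
      · refine hnsq (a * e₀) (mul_mem ha he₀D) ?_
        calc k = (c * k⁻¹)⁻¹ * c := by group
          _ = s * s * (a * a) := by rw [hh, inv_eq_of_mul_eq_one_right H.z_sq, hca]
          _ = a * a * (e₀ * e₀) := by rw [hee, hcomm (mul_mem ha ha) hz]
          _ = a * (a * e₀) * e₀ := by group
          _ = a * (e₀ * a) * e₀ := by rw [hcomm ha he₀D]
          _ = _ := by group
    rw [hw]
    refine ⟨fun h1 => key (e⁻¹ * e₀) (mul_mem (inv_mem h) he₀D) ?_, fun h1 => key e⁻¹ (inv_mem h) ?_⟩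
    · have h2 : c * (s * s) = (e * e)⁻¹ := eq_inv_of_mul_eq_one_right h1
      calc c = c * (s * s) * (s * s) := by rw [mul_assoc c, H.z_sq, mul_one]
        _ = (e * e)⁻¹ * (e₀ * e₀) := by rw [h2, hee]
        _ = e⁻¹ * (e⁻¹ * e₀) * e₀ := by group
        _ = e⁻¹ * (e₀ * e⁻¹) * e₀ := by rw [hcomm (inv_mem h) he₀D]
        _ = _ := by group
    · rw [← mul_assoc] at h1
      have h2 : e * e * c = 1 := mul_eq_right.1 h1
      rw [eq_inv_of_mul_eq_one_right h2, mul_inv_rev]
  have hinvol : ∀ {w : G}, w ∈ T → w ∈ A → w * w = 1 → w ∈ ⁅T, T⁆ ∨ w * g⁻¹ ∈ ⁅T, T⁆ := by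
    intro w hw hwA hww
    rcases H.four_cosets hD hg hgA hgD hgs hw hwA with h | h | h | h
    · exact Or.inl h
    · exact absurd ((hs_sq h).symm.trans hww) H.s_sq_ne
    · exact Or.inr h
    · exact absurd hww (hgs_sq h).1
  have hz2 : ∀ x : G, x⁻¹ * (s * s) * x ∈ T → x⁻¹ * (s * s) * x ∈ ⁅T, T⁆ ∨ x⁻¹ * (s * s) * x * g⁻¹ ∈ ⁅T, T⁆ :=
    fun x h => hinvol h (H.conj_mem_A (mul_mem H.sA H.sA)) (H.invol_sq H.z_sq)
  refine (H.elim (a := g) hg hgA (by rw [hgg]; exact one_mem _) H.sT H.sA (zpowers s)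
    (H.two.to_le (zpowers_le.2 H.sT)) (mem_zpowers s) ?_ ?_ ?_ ?_).elim H.s_notMem_D fun h => hgs ?_
  · rintro _ ⟨i, rfl⟩
    exact ((Commute.refl s).zpow_left i).eq
  · intro j x hj hd hx
    rw [H.s4] at hd
    have hj4 := Nat.le_of_dvd (by norm_num) hd
    interval_cases j
    · rw [pow_two] at hx ⊢
      exact hz2 x hx
    · norm_num at hd
    · left
      rw [show s ^ 4 = 1 from H.s4 ▸ pow_orderOf_eq_one s, mul_one, inv_mul_cancel]
      exact one_mem _
  · intro x hxT hxA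
    rw [show x⁻¹ * s * x * (x⁻¹ * s * x) = x⁻¹ * (s * s) * x by group]
    refine hz2 x ?_
    rw [show x⁻¹ * (s * s) * x = x⁻¹ * s * x * (x⁻¹ * s * x) by group]
    exact mul_mem hxT hxT
  · intro x _ hxT hxA
    set y := x⁻¹ * s * x with hy
    rcases H.four_cosets hD hg hgA hgD hgs hxT hxA with h | h | h | h
    · exfalso
      refine H.no_conj_D hinv h ?_ hy.symm
      refine (H.D_invol (mul_mem h h) ?_).resolve_left fun h1 => H.s_sq_ne ?_
      · rw [show y * y = x⁻¹ * (s * s) * x by rw [hy]; group]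
        exact H.invol_sq H.z_sq
      · rw [show s * s = x * (y * y) * x⁻¹ by rw [hy]; group, h1, mul_one, mul_inv_cancel]
    · exact Or.inl h
    · exfalso
      refine H.s_sq_ne ?_
      rw [show s * s = x * (y * y) * x⁻¹ by rw [hy]; group, hg_sq h, mul_one, mul_inv_cancel]
    · refine Or.inr ?_
      have h2 := mul_mem h hcD
      simpa [mul_assoc] using h
  · have h2 := inv_mem h
    rwa [mul_inv_rev, inv_inv] at h2

/-- If all involutions lie in `D ∪ D s` there is only one. -/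
theorem no_inside_invol (hD : (⁅T, T⁆ : Subgroup G) ≠ ⊥) (hcs : ∀ x ∈ ⁅T, T⁆, s * x * s⁻¹ = x)
    (hno : ∀ g ∈ T, g ∈ A → g ∉ ⁅T, T⁆ → g * s⁻¹ ∉ ⁅T, T⁆ → g * g ≠ 1)
    {f : G} (hf : f ∈ T) (hfA : f ∈ A) (hfD : f ∉ ⁅T, T⁆) (hfs : f * s⁻¹ ∈ ⁅T, T⁆) (hff : f * f = 1) :
    False := by
  classical
  have hz := H.z_mem_D hD
  have hf1 : f ≠ 1 := fun h => hfD (h ▸ one_mem _)
  have hfz : f ≠ s * s := fun h => hfD (h ▸ hz)
  have hs_sq : ∀ {w : G}, w * s⁻¹ ∈ ⁅T, T⁆ → w * w = w * s⁻¹ * (w * s⁻¹) * (s * s) := fun {w} h => by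
    calc w * w = w * s⁻¹ * (s * (w * s⁻¹) * s⁻¹) * (s * s) := by group
      _ = _ := by rw [hcs _ h]
  obtain ⟨d, hd⟩ := H.exists_gen
  have hdD : d ∈ ⁅T, T⁆ := hd ▸ mem_zpowers d
  obtain ⟨n, hn⟩ := H.orderOf_two_pow (H.D_le_T hdD)
  obtain ⟨n, rfl⟩ : ∃ j, n = j + 2 := by
    refine ⟨n - 2, ?_⟩
    have hd2 : d * d ≠ 1 := fun h => by
      have h1 := hs_sq hfs
      obtain ⟨i, hi⟩ := hd ▸ hfs
      have hi : d ^ i = f * s⁻¹ := hi
      rw [hff, ← hi, ← (Commute.refl d).mul_zpow, h, one_zpow, one_mul] at h1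
      exact H.s_sq_ne h1.symm
    rcases n with _ | _ | n
    · exact absurd (by rw [orderOf_eq_one_iff.1 hn, mul_one]) hd2
    · exact absurd (by rw [← pow_two, ← show orderOf d = 2 by simpa using hn, pow_orderOf_eq_one]) hd2
    · omega
  have hdz : d ^ 2 ^ (n + 1) = s * s := by
    refine (H.D_invol (pow_mem hdD _) ?_).resolve_left fun h => ?_
    · rw [← pow_add, ← two_mul, ← pow_succ', ← hn, pow_orderOf_eq_one]
    · have := Nat.le_of_dvd (by positivity) (orderOf_dvd_of_pow_eq_one h)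
      rw [hn] at this
      exact absurd ((Nat.pow_le_pow_iff_right (le_refl 2)).1 this) (by omega)
  have hDf : ∀ x ∈ ⁅T, T⁆, Commute x f := fun x hx => by
    have h1 : Commute x s := ((show Commute s x from mul_inv_eq_iff_eq_mul.1 (hcs x hx))).symm
    have h2 := (show Commute x (f * s⁻¹) from H.D_comm hx hfs).mul_right h1
    rwa [inv_mul_cancel_right] at h2
  set U := (⁅T, T⁆ : Subgroup G) ⊔ zpowers f with hU
  have hUT : U ≤ T := sup_le H.D_le_T (zpowers_le.2 hf)
  have hUc : U ≤ centralizer ({f} : Set G) := sup_le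
    (fun x hx => mem_centralizer_singleton_iff.2 (hDf x hx).eq)
    (zpowers_le.2 (mem_centralizer_singleton_iff.2 rfl))
  refine (H.elim_invol (a := (1 : G)) (one_mem T) (one_mem A) (by rw [mul_one]; exact one_mem _)
    hf hfA hff hf1 U (H.two.to_le hUT) (mem_sup_right (mem_zpowers f))
    (fun u hu => mem_centralizer_singleton_iff.1 (hUc hu)) fun x hxU hxT hxA => Or.inl ?_).elim hfD
    fun h => hfD (by rwa [inv_one, mul_one] at h)
  have hx1 := H.invol_ne_one (g := x) hf1
  have hxx := H.invol_sq (g := x) hff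
  by_cases hyD : x⁻¹ * f * x ∈ ⁅T, T⁆
  swap
  · by_cases hys : x⁻¹ * f * x * s⁻¹ ∈ ⁅T, T⁆
    · have h2 := mul_mem hys (inv_mem hfs)
      rwa [mul_inv_rev, inv_inv, ← mul_assoc, inv_mul_cancel_right] at h2
    · exact absurd hxx (hno _ hxT hxA hyD hys)
  exfalso
  have hyz : x⁻¹ * f * x = s * s := (H.D_invol hyD hxx).resolve_left hx1
  -- the image of a generator of `D`
  set w := x⁻¹ * d * x with hw
  have hwT : w ∈ T := hxU d (mem_sup_left hdD)
  have hwA : w ∈ A := H.conj_mem_A (H.D_le_A hdD)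
  set z' := w ^ 2 ^ (n + 1) with hz'
  have hz'e : z' = x⁻¹ * (s * s) * x := by
    rw [hz', hw, ← hdz]
    have h := conj_pow (i := 2 ^ (n + 1)) (a := x⁻¹) (b := d)
    rwa [inv_inv] at h
  have hz'T : z' ∈ T := pow_mem hwT _
  have hz'A : z' ∈ A := pow_mem hwA _
  have hz'2 : z' * z' = 1 := by rw [hz'e]; exact H.invol_sq H.z_sq
  have hz'D : z' ∉ ⁅T, T⁆ := fun h => by
    rcases H.D_invol h hz'2 with h1 | h1
    · exact H.invol_ne_one H.s_sq_ne (hz'e ▸ h1)
    · refine hfz ?_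
      rw [hz'e] at h1
      calc f = x * (x⁻¹ * f * x) * x⁻¹ := by group
        _ = x * (x⁻¹ * (s * s) * x) * x⁻¹ := by rw [hyz, h1]
        _ = s * s := by group
  rcases Nat.eq_zero_or_pos n with rfl | hn0
  swap
  · refine hz'D ?_
    rw [hz', show 2 ^ (n + 1) = 4 * 2 ^ (n - 1) by
      rw [show 4 = 2 ^ 2 by norm_num, ← pow_add]; congr 1; omega, pow_mul]
    exact pow_mem (H.pow_four_mem hwT hwA) _
  have hww : w * w = z' := by rw [hz', ← pow_two]; rfl
  have hz's : z' * s⁻¹ ∈ ⁅T, T⁆ := by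
    by_contra h
    exact hno _ hz'T hz'A hz'D h hz'2
  have hwD : w ∉ ⁅T, T⁆ := fun h => hz'D (hww ▸ mul_mem h h)
  have hws : w * s⁻¹ ∉ ⁅T, T⁆ := fun h => hz'D (by
    rw [← hww, hs_sq h]
    exact mul_mem (mul_mem h h) hz)
  have hgen := H.gen hD hwT hwA hwD hws
  set k := w⁻¹ * (t * w * t⁻¹) with hk
  have hkD : k ∈ ⁅T, T⁆ := hgen ▸ mem_zpowers k
  have hko : orderOf k = 4 := by
    rw [← Nat.card_zpowers, ← hgen, hd, Nat.card_zpowers, hn]; rfl
  have hk4 : k * k * (k * k) = 1 := by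
    have := pow_orderOf_eq_one k
    rw [hko] at this
    rw [← this]; simp [pow_succ, mul_assoc]
  have hkz : k * k = s * s := (H.D_invol (mul_mem hkD hkD) hk4).resolve_left fun h => by
    have := Nat.le_of_dvd two_pos (orderOf_dvd_of_pow_eq_one (x := k) (n := 2) (by rw [pow_two]; exact h))
    omega
  -- `t` moves `z'` to `z' z`
  have htz' : t * z' * t⁻¹ = z' * (s * s) := by
    set e := z' * s⁻¹ with he
    have hee : e * e = s * s := by
      have h1 := hs_sq hz's
      rw [hz'2] at h1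
      exact (eq_inv_of_mul_eq_one_left h1.symm).trans (inv_eq_of_mul_eq_one_right H.z_sq)
    have he4 : e⁻¹ = s * s * e := by
      refine inv_eq_of_mul_eq_one_left ?_
      rw [mul_assoc, hee, H.z_sq]
    calc t * z' * t⁻¹ = t * e * t⁻¹ * (t * s * t⁻¹) := by rw [he]; group
      _ = s * s * e * s := by rw [H.t_inverts hz's, he4, H.ts, mul_inv_cancel_right]
      _ = e * (s * s) * s := by rw [H.D_comm hz hz's]
      _ = _ := by rw [he]; group
  have hwk : w * k = k * w := by
    have h1 : t * z' * t⁻¹ = z' * ((w⁻¹ * k * w) * k) := by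
      rw [← hww]
      calc t * (w * w) * t⁻¹ = t * w * t⁻¹ * (t * w * t⁻¹) := by group
        _ = w * k * (w * k) := by rw [hk]; group
        _ = _ := by group
    rw [htz'] at h1
    have h2 : w⁻¹ * k * w = k := mul_right_cancel ((mul_left_cancel h1).symm.trans hkz.symm)
    calc w * k = w * (w⁻¹ * k * w) := by rw [h2]
      _ = k * w := by group
  -- homocyclic
  haveI : Fact (Nat.Prime 2) := ⟨Nat.prime_two⟩
  have hw4 : w ^ 4 = 1 := by rw [show (4 : ℕ) = 2 * 2 from rfl, pow_mul, pow_two w, hww, pow_two, hz'2]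
  have hk4' : k ^ 4 = 1 := hko ▸ pow_orderOf_eq_one k
  let SA : Subgroup A := (T ⊓ A).subgroupOf A
  have hodd : Odd SA.index := by
    have h1 := T.card_mul_index
    have h2 := A.card_mul_index
    have h3 := SA.card_mul_index
    rw [Nat.card_congr (subgroupOfEquivOfLe inf_le_right).toEquiv] at h3
    rw [H.idx] at h2
    rw [H.card_T, ← h2, ← h3] at h1
    have : T.index = SA.index :=
      Nat.eq_of_mul_eq_mul_left (show 0 < Nat.card (T ⊓ A : Subgroup G) * 2 from
        Nat.mul_pos Nat.card_pos two_pos) (by linarith)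
    exact this ▸ H.odd
  let P : Sylow 2 A := (IsPGroup.comap_of_injective (H.two.to_le inf_le_left) _ A.subtype_injective :
    IsPGroup 2 SA).toSylow (by rw [← even_iff_two_dvd]; exact Nat.not_even_iff_odd.2 hodd)
  have hP : (P : Subgroup A) = SA := rfl
  refine no_four_four (K := A) ?_ P ?_
  · rw [← map_injective A.subtype_injective |>.eq_iff, map_subtype_commutator, ← MonoidHom.range_eq_map,
      range_subtype]
    exact H.perf
  have hS16 : Nat.card (T ⊓ A : Subgroup G) = 16 := by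
    rw [H.card_D, hgen, Nat.card_zpowers, hko]
  let φ : Multiplicative (ZMod 4 × ZMod 4) → (T ⊓ A : Subgroup G) := fun p =>
    ⟨k ^ (Multiplicative.toAdd p).1.val * w ^ (Multiplicative.toAdd p).2.val,
      T.mul_mem (pow_mem (H.D_le_T hkD) _) (pow_mem hwT _),
      A.mul_mem (pow_mem (H.D_le_A hkD) _) (pow_mem hwA _)⟩
  have hkw : Commute k w := hwk.symm
  have hpk : ∀ {x : G}, x ^ 4 = 1 → ∀ a b : ZMod 4, x ^ (a + b).val = x ^ a.val * x ^ b.val := by
    intro x hx a b
    rw [← pow_add, ZMod.val_add, ← Nat.mod_add_div (a.val + b.val) 4, pow_add, pow_mul, hx, one_pow, mul_one,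
      Nat.mod_add_div]
  let ψ : Multiplicative (ZMod 4 × ZMod 4) →* (T ⊓ A : Subgroup G) := MonoidHom.mk' φ fun p q => by
    apply Subtype.ext
    show k ^ (Multiplicative.toAdd p + Multiplicative.toAdd q).1.val *
      w ^ (Multiplicative.toAdd p + Multiplicative.toAdd q).2.val = _ * _
    rw [Prod.fst_add, Prod.snd_add, hpk hk4', hpk hw4]
    exact ((hkw.symm.pow_pow _ _).symm).mul_mul_mul_comm _ _
  have hψ : Function.Injective ψ := by
    rw [injective_iff_map_eq_one]
    intro p hp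
    have hp : k ^ (Multiplicative.toAdd p).1.val * w ^ (Multiplicative.toAdd p).2.val = 1 :=
      congrArg Subtype.val hp
    set i := (Multiplicative.toAdd p).1 with hi
    set j := (Multiplicative.toAdd p).2 with hj
    have hwj : w ^ j.val ∈ ⁅T, T⁆ := by
      rw [eq_inv_of_mul_eq_one_right hp]; exact inv_mem (pow_mem hkD _)
    have hj0 : j.val = 0 := by
      have hlt := ZMod.val_lt j
      generalize j.val = m at hwj hlt
      interval_cases m
      · rfl
      · rw [pow_one] at hwj; exact absurd hwj hwD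
      · rw [pow_two, hww] at hwj; exact absurd hwj hz'D
      · exfalso
        rw [pow_succ, pow_two, hww] at hwj
        refine hws ?_
        have h5 := mul_mem (mul_mem (inv_mem hz's) hwj) (one_mem _)
        rw [mul_one, show (z' * s⁻¹)⁻¹ * (z' * w) = s * w by group] at h5
        have h6 := mul_mem (H.conj_D (T.inv_mem H.sT) h5) (inv_mem hz)
        rwa [show s⁻¹ * (s * w) * s⁻¹⁻¹ * (s * s)⁻¹ = w * s⁻¹ by group] at h6
    rw [hj0, pow_zero, mul_one] at hp
    have hi0 : i.val = 0 := by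
      by_contra h
      have := Nat.le_of_dvd (Nat.pos_of_ne_zero h) (hko ▸ orderOf_dvd_of_pow_eq_one hp)
      have := ZMod.val_lt i
      omega
    exact Multiplicative.toAdd.injective (Prod.ext (ZMod.val_injective 4 (by rw [← hi, hi0]; rfl))
      (ZMod.val_injective 4 (by rw [← hj, hj0]; rfl)))
  have hψb : Function.Bijective ψ := (Nat.bijective_iff_injective_and_card _).2 ⟨hψ, by
    rw [hS16, Nat.card_congr Multiplicative.toAdd, Nat.card_prod, Nat.card_zmod]⟩
  exact ((MulEquiv.subgroupCongr hP).trans (subgroupOfEquivOfLe inf_le_right)).trans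
    (MulEquiv.ofBijective ψ hψb).symm

/-- The only involution of `S` is the square of `s`. -/
theorem unique_invol {x : G} (hx : x ∈ T) (hxA : x ∈ A) (hxx : x * x = 1) : x = 1 ∨ x = s * s := by
  by_cases hD : (⁅T, T⁆ : Subgroup G) = ⊥
  · refine H.cent_invol hx hxA ?_ hxx
    have h := H.comm_mem hx H.tT
    rw [hD, mem_bot, mul_inv_eq_one, mul_inv_eq_iff_eq_mul] at h
    exact h
  by_cases hxD : x ∈ ⁅T, T⁆
  · exact H.D_invol hxD hxx
  exfalso
  by_cases hex : ∃ g ∈ T, g ∈ A ∧ g ∉ ⁅T, T⁆ ∧ g * s⁻¹ ∉ ⁅T, T⁆ ∧ g * g = 1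
  · obtain ⟨g, hg, hgA, hgD, hgs, hgg⟩ := hex
    by_cases hcs : ∀ y ∈ ⁅T, T⁆, s * y * s⁻¹ = y
    · exact H.no_outside_invol hD hcs hg hgA hgD hgs hgg
    · exact H.no_outside_invol_inv hD ((H.s_cases hD).resolve_left hcs) hcs hg hgA hgD hgs hgg
  push Not at hex
  have hxs : x * s⁻¹ ∈ ⁅T, T⁆ := by
    by_contra h
    exact hex x hx hxA hxD h hxx
  rcases H.s_cases hD with hcs | hinv
  · exact H.no_inside_invol hD hcs hex hx hxA hxD hxs hxx
  · refine H.s_sq_ne ?_
    have e : x * x = x * s⁻¹ * (s * (x * s⁻¹) * s⁻¹) * (s * s) := by group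
    rw [hinv _ hxs, mul_inv_cancel, one_mul, hxx] at e
    exact e.symm

end Hyp

end Cfsg.Agent.CyclicFourCent
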