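import Cfsg.Agent.Lib.PLocal.MaxClass
import Cfsg.Agent.Lib.TwoGroups.NormalFour
import Cfsg.Agent.Lib.TwoGroups.CyclicMax

/-!
A 2-group with an involution `t` outside an index-two subgroup `S` whose centralizer in `S` is cyclic
of order four: the derived subgroup is cyclic, inverted by `t`, of index four in `S`.
-/

set_option autoImplicit false
set_option linter.style.haveILetI false
set_option linter.unusedSectionVars false

namespace Cfsg.Agent.CyclicFourCent

open Subgroup

universe u

variable {G : Type u} [Group G] [Finite G]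

/-- The situation: a perfect subgroup of index two, an involution outside with Sylow 2-subgroups of
its centralizer in it cyclic of order four, generated by `s` inside the Sylow subgroup `T`. -/
structure Hyp (A T : Subgroup G) (t s : G) : Prop where
  normA : A.Normal
  idx : A.index = 2
  perf : ⁅A, A⁆ = A
  two : IsPGroup 2 T
  odd : Odd T.index
  tT : t ∈ T
  tA : t ∉ A
  tt : t * t = 1
  sT : s ∈ T
  sA : s ∈ A
  ts : t * s = s * t
  s4 : orderOf s = 4
  small : ∀ P : Subgroup G, P ≤ A → IsPGroup 2 P → (∀ x ∈ P, x * t = t * x) → Nat.card P ≤ 4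

namespace Hyp

variable {A T : Subgroup G} {t s : G} (H : Hyp A T t s)

include H

theorem t_inv : t⁻¹ = t := inv_eq_of_mul_eq_one_right H.tt

theorem s_sq_ne : s * s ≠ 1 := fun h => by
  have := orderOf_dvd_of_pow_eq_one (x := s) (n := 2) (by rw [pow_two]; exact h)
  rw [H.s4] at this
  norm_num at this

theorem z_sq : s * s * (s * s) = 1 := by
  have := pow_orderOf_eq_one s
  rw [H.s4] at this
  calc s * s * (s * s) = s ^ 4 := by simp [pow_succ, mul_assoc]
    _ = 1 := this

theorem s_inv_ne : s⁻¹ ≠ s := fun h => H.s_sq_ne (by nth_rewrite 1 [← h]; exact inv_mul_cancel s)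

theorem mem_A_or {x : G} : x ∈ A ∨ x * t ∈ A := by
  by_cases h : x ∈ A
  · exact Or.inl h
  · exact Or.inr ((mul_mem_iff_of_index_two H.idx).2 (iff_of_false h H.tA))

theorem commutator_le_S : ⁅T, T⁆ ≤ T ⊓ A := by
  refine le_inf ?_ ?_
  · exact (commutator_le).2 fun a ha b hb => by
      rw [commutatorElement_def]
      exact T.mul_mem (T.mul_mem (T.mul_mem ha hb) (T.inv_mem ha)) (T.inv_mem hb)
  · refine (commutator_le).2 fun a _ b _ => ?_
    rw [commutatorElement_def]
    simp only [mul_mem_iff_of_index_two H.idx, inv_mem_iff]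
    tauto

theorem D_le_T : ⁅T, T⁆ ≤ T := H.commutator_le_S.trans inf_le_left

theorem D_le_A : ⁅T, T⁆ ≤ A := H.commutator_le_S.trans inf_le_right

theorem comm_mem {a b : G} (ha : a ∈ T) (hb : b ∈ T) : a * b * a⁻¹ * b⁻¹ ∈ ⁅T, T⁆ := by
  have := commutator_mem_commutator ha hb
  rwa [commutatorElement_def] at this

theorem conj_D {x d : G} (hx : x ∈ T) (hd : d ∈ ⁅T, T⁆) : x * d * x⁻¹ ∈ ⁅T, T⁆ := by
  have := mul_mem (H.comm_mem hx (H.D_le_T hd)) hd
  rwa [inv_mul_cancel_right] at this

/-- Elements of `S` centralizing `t` are powers of `s`. -/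
theorem cent {x : G} (hx : x ∈ T) (hxA : x ∈ A) (hxt : x * t = t * x) : x ∈ zpowers s := by
  set P := T ⊓ A ⊓ centralizer ({t} : Set G) with hP
  have hsP : zpowers s ≤ P := zpowers_le.2 ⟨⟨H.sT, H.sA⟩, mem_centralizer_singleton_iff.2 H.ts.symm⟩
  have hc := H.small P (inf_le_left.trans inf_le_right) (H.two.to_le (inf_le_left.trans inf_le_left))
    fun y hy => mem_centralizer_singleton_iff.1 hy.2
  rw [eq_of_le_of_card_ge hsP (by rw [Nat.card_zpowers, H.s4]; exact hc)]
  exact ⟨⟨hx, hxA⟩, mem_centralizer_singleton_iff.2 hxt⟩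

theorem cent_invol {x : G} (hx : x ∈ T) (hxA : x ∈ A) (hxt : x * t = t * x) (hxx : x * x = 1) :
    x = 1 ∨ x = s * s := by
  rcases TwoFus.order_four_cases H.s4 (H.cent hx hxA hxt) with h | h | h | h
  · exact Or.inl h
  · exact absurd (h ▸ hxx) H.s_sq_ne
  · exact Or.inr h
  · refine absurd ?_ H.s_sq_ne
    have h1 : (s * s)⁻¹ = 1 := by rw [mul_inv_rev, ← h, hxx]
    exact inv_eq_one.1 h1

theorem z_central {x : G} (hx : x ∈ T) : x * (s * s) = s * s * x := by
  haveI : Fact (Nat.Prime 2) := ⟨Nat.prime_two⟩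
  haveI : ((T ⊓ A).subgroupOf T).Normal := ⟨fun m hm g => by
    rw [mem_subgroupOf] at hm ⊢
    exact ⟨(g * m * g⁻¹).2, H.normA.conj_mem _ hm.2 g⟩⟩
  have hne : (T ⊓ A).subgroupOf T ≠ ⊥ := fun h => by
    have h1 : (⟨s, H.sT⟩ : T) ∈ (T ⊓ A).subgroupOf T := ⟨H.sT, H.sA⟩
    rw [h, mem_bot] at h1
    exact H.s_sq_ne (by rw [show s = 1 from congrArg Subtype.val h1, one_mul])
  obtain ⟨w, hw, hw2, hwc⟩ := NormalFour.exists_central_mem H.two hne
  have hwx : ∀ {y : G}, y ∈ T → y * (w : G) = w * y := fun {y} hy =>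
    congrArg Subtype.val (mem_center_iff.1 hwc ⟨y, hy⟩)
  have hww : (w : G) * w = 1 := by
    rw [← orderOf_coe] at hw2
    rw [← pow_two, ← hw2, pow_orderOf_eq_one]
  rcases H.cent_invol w.2 hw.2 (hwx H.tT).symm hww with h | h
  · rw [← orderOf_coe, h, orderOf_one] at hw2
    norm_num at hw2
  · rw [← h]
    exact hwx hx

/-- Every element of `D` lies among the commutators with an involution centralized by little of `S`. -/
theorem card_bound {u : G} (huT : u ∈ T)
    (hC : ∀ P : Subgroup G, P ≤ A → IsPGroup 2 P → (∀ x ∈ P, x * u = u * x) → Nat.card P ≤ 4) :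
    Nat.card (T ⊓ A : Subgroup G) ≤ 4 * Nat.card (⁅T, T⁆ : Subgroup G) ∧
      (Nat.card (T ⊓ A : Subgroup G) = 4 * Nat.card (⁅T, T⁆ : Subgroup G) →
        ∀ d ∈ ⁅T, T⁆, ∃ x ∈ T ⊓ A, d = x⁻¹ * (u * x * u⁻¹)) := by
  classical
  letI := Fintype.ofFinite G
  let κ : G → G := fun x => x⁻¹ * (u * x * u⁻¹)
  set Ss : Finset G := Finset.univ.filter (fun x => x ∈ T ⊓ A) with hSs
  set Ds : Finset G := Finset.univ.filter (fun x => x ∈ ⁅T, T⁆) with hDs
  have hS : Nat.card (T ⊓ A : Subgroup G) = Ss.card := by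
    rw [Nat.card_eq_fintype_card, Fintype.card_subtype]
  have hD : Nat.card (⁅T, T⁆ : Subgroup G) = Ds.card := by
    rw [Nat.card_eq_fintype_card, Fintype.card_subtype]
  set C := T ⊓ A ⊓ centralizer ({u} : Set G) with hCdef
  have hC4 : Nat.card C ≤ 4 := hC C (inf_le_left.trans inf_le_right) (H.two.to_le (inf_le_left.trans inf_le_left))
    fun y hy => mem_centralizer_singleton_iff.1 hy.2
  have himg : Ss.image κ ⊆ Ds := by
    intro y hy
    obtain ⟨x, hx, rfl⟩ := Finset.mem_image.1 hy
    refine Finset.mem_filter.2 ⟨Finset.mem_univ _, ?_⟩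
    have := H.comm_mem (T.inv_mem (Finset.mem_filter.1 hx).2.1) huT
    simpa [κ, mul_assoc] using this
  have hfib : ∀ b ∈ Ss.image κ, (Ss.filter fun x => κ x = b).card ≤ 4 := by
    intro b hb
    obtain ⟨x₀, hx₀, rfl⟩ := Finset.mem_image.1 hb
    have hC' : Nat.card C = (Finset.univ.filter (fun x => x ∈ C)).card := by
      rw [Nat.card_eq_fintype_card, Fintype.card_subtype]
    refine (Finset.card_le_card_of_injOn (t := Finset.univ.filter (fun x => x ∈ C)) (fun x => x * x₀⁻¹) ?_
      fun a _ b _ h => mul_right_cancel h).trans (hC' ▸ hC4)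
    intro x hx
    obtain ⟨hxS, hxe⟩ := Finset.mem_filter.1 hx
    refine Finset.mem_filter.2 ⟨Finset.mem_univ _, ?_⟩
    have hxS' := (Finset.mem_filter.1 hxS).2
    have hx₀' := (Finset.mem_filter.1 hx₀).2
    refine ⟨(T ⊓ A).mul_mem hxS' ((T ⊓ A).inv_mem hx₀'), mem_centralizer_singleton_iff.2 ?_⟩
    have h1 : u * x * u⁻¹ = x * (x₀⁻¹ * (u * x₀ * u⁻¹)) := by
      have hxe' : x⁻¹ * (u * x * u⁻¹) = x₀⁻¹ * (u * x₀ * u⁻¹) := hxe
      rw [← hxe']
      group
    calc x * x₀⁻¹ * u = x * (x₀⁻¹ * (u * x₀ * u⁻¹)) * (u * x₀⁻¹) := by group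
      _ = u * x * u⁻¹ * (u * x₀⁻¹) := by rw [h1]
      _ = _ := by group
  have h1 := Finset.card_le_mul_card_image Ss 4 hfib
  refine ⟨by rw [hS, hD]; exact h1.trans (Nat.mul_le_mul_left 4 (Finset.card_le_card himg)), fun heq d hd => ?_⟩
  rw [hS, hD] at heq
  have heq2 : Ss.image κ = Ds := Finset.eq_of_subset_of_card_le himg (by omega)
  have hd' : d ∈ Ss.image κ := heq2 ▸ Finset.mem_filter.2 ⟨Finset.mem_univ _, hd⟩
  obtain ⟨x, hx, rfl⟩ := Finset.mem_image.1 hd'
  exact ⟨x, (Finset.mem_filter.1 hx).2, rfl⟩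

theorem card_T : Nat.card T = 2 * Nat.card (T ⊓ A : Subgroup G) := by
  have h := card_mul_index ((T ⊓ A).subgroupOf T)
  rw [Nat.card_congr (subgroupOfEquivOfLe inf_le_left).toEquiv] at h
  have hi : ((T ⊓ A).subgroupOf T).index = 2 := by
    rw [index_eq_two_iff]
    refine ⟨⟨t, H.tT⟩, fun b => ?_⟩
    simp only [mem_subgroupOf, mem_inf, coe_mul]
    have hb := b.2
    by_cases hbA : (b : G) ∈ A
    · refine Or.inr ⟨⟨hb, hbA⟩, fun h => H.tA ?_⟩
      exact ((mul_mem_iff_of_index_two H.idx).1 h.2).1 hbA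
    · exact Or.inl ⟨⟨mul_mem hb H.tT, (mul_mem_iff_of_index_two H.idx).2 (iff_of_false hbA H.tA)⟩,
        fun h => hbA h.2⟩
  rw [hi] at h
  omega

theorem card_D : Nat.card (T ⊓ A : Subgroup G) = 4 * Nat.card (⁅T, T⁆ : Subgroup G) := by
  haveI : Fact (Nat.Prime 2) := ⟨Nat.prime_two⟩
  have hle := (H.card_bound H.tT H.small).1
  obtain ⟨n, hn⟩ := IsPGroup.iff_card.1 H.two
  have hS4 : 4 ≤ Nat.card (T ⊓ A : Subgroup G) := by
    rw [← H.s4, ← Nat.card_zpowers]
    exact card_le_of_le (zpowers_le.2 ⟨H.sT, H.sA⟩)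
  have hT := H.card_T
  set K := commutator T with hK
  have hKD : Nat.card K = Nat.card (⁅T, T⁆ : Subgroup G) := by
    rw [hK, ← card_map_of_injective T.subtype_injective, map_subtype_commutator]
  have hKi := K.card_mul_index
  obtain ⟨j, hj⟩ := H.two.index K
  rw [hKD, hj, hT] at hKi
  have hn3 : 3 ≤ n := by
    by_contra h
    have : 2 ^ n ≤ 2 ^ 2 := Nat.pow_le_pow_right two_pos (by omega)
    omega
  rcases Nat.lt_or_ge j 3 with hj3 | hj3
  · exfalso
    have hne : K ≠ ⊥ := fun h => by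
      rw [← hKD, h, card_bot] at hKi
      have : 2 ^ j ≤ 2 ^ 2 := Nat.pow_le_pow_right two_pos (by omega)
      omega
    have h2 := MaxClass.sq_le_index_commutator H.two hne
    rw [hj] at h2
    have hj2 : j = 2 := by
      have := (Nat.pow_le_pow_iff_right (le_refl 2)).1 h2
      omega
    subst hj2
    obtain ⟨a, ha⟩ := MaxClass.exists_cyclic_index_two n T hn hn3 hj
    have hCa : ∀ x ∈ zpowers a, ∀ y ∈ zpowers a, x * y = y * x := by
      rintro _ ⟨i, rfl⟩ _ ⟨k, rfl⟩
      exact ((Commute.refl a).zpow_zpow i k).eq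
    set τ : T := ⟨t, H.tT⟩ with hτ
    by_cases htC : τ ∈ zpowers a
    · -- `t` would be the involution of a normal cyclic subgroup, hence central
      haveI := normal_of_index_eq_two ha
      have hc : ∀ x : T, x * τ = τ * x := fun x => by
        have h1 : x * τ * x⁻¹ ∈ zpowers a := ‹(zpowers a).Normal›.conj_mem τ htC x
        have hτ2 : orderOf τ = 2 := orderOf_eq_prime (by rw [pow_two]; exact Subtype.ext H.tt)
          fun h => H.tA (by rw [show t = 1 from congrArg Subtype.val h]; exact A.one_mem)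
        have key : ∀ u v : T, u ∈ zpowers a → v ∈ zpowers a → orderOf u = 2 → orderOf v = 2 → u = v := by
          intro u v hu hv hu2 hv2
          classical
          by_contra hne
          letI := Fintype.ofFinite (zpowers a)
          have hsq : ∀ w : T, orderOf w = 2 → w ^ 2 = 1 := fun w hw => hw ▸ pow_orderOf_eq_one w
          have hle := IsCyclic.card_pow_eq_one_le (α := zpowers a) (n := 2) two_pos
          have hsub : ({1, ⟨u, hu⟩, ⟨v, hv⟩} : Finset (zpowers a)) ⊆ Finset.univ.filter (fun x => x ^ 2 = 1) := by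
            intro w hw
            simp only [Finset.mem_insert, Finset.mem_singleton] at hw
            refine Finset.mem_filter.2 ⟨Finset.mem_univ _, ?_⟩
            rcases hw with rfl | rfl | rfl
            · exact one_pow _
            · exact Subtype.ext (hsq u hu2)
            · exact Subtype.ext (hsq v hv2)
          have h3 := (Finset.card_le_card hsub).trans hle
          have hu1 : u ≠ 1 := fun h => by rw [h, orderOf_one] at hu2; norm_num at hu2
          have hv1 : v ≠ 1 := fun h => by rw [h, orderOf_one] at hv2; norm_num at hv2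
          rw [Finset.card_insert_of_notMem (by
              rw [Finset.mem_insert, Finset.mem_singleton]
              rintro (h | h)
              exacts [hu1 (congrArg Subtype.val h).symm, hv1 (congrArg Subtype.val h).symm]),
            Finset.card_pair (fun h => hne (congrArg Subtype.val h))] at h3
          omega
        have := key (x * τ * x⁻¹) τ h1 htC
          (by rw [← MulAut.conj_apply, MulEquiv.orderOf_eq, hτ2]) hτ2
        exact mul_inv_eq_iff_eq_mul.1 this
      have h8 := H.small (T ⊓ A) inf_le_right (H.two.to_le inf_le_left) fun x hx =>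
        congrArg Subtype.val (hc ⟨x, hx.1⟩)
      have hT8 : Nat.card T ≤ 8 := by omega
      have hKb : 1 < Nat.card K := K.one_lt_card_iff_ne_bot.2 hne
      rw [← hKD] at hKi
      have h4 : Nat.card K * 4 = Nat.card T := by omega
      -- an element commuting with everything on an abelian group of order eight
      refine hne ?_
      rw [hK, _root_.commutator_def, eq_bot_iff, commutator_le]
      intro x _ y _
      rw [mem_bot, commutatorElement_eq_one_iff_commute]
      have hab : ∀ w : T, (w : G) ∈ A → w * τ = τ * w := fun w _ => hc w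
      have hsA : ∀ x ∈ T ⊓ A, x ∈ zpowers s := fun x hx => H.cent hx.1 hx.2 (congrArg Subtype.val (hc ⟨x, hx.1⟩))
      have hdec : ∀ w : T, ∃ i : ℤ, ∃ j : ℕ, (w : G) = s ^ i * t ^ j := fun w => by
        rcases H.mem_A_or (x := (w : G)) with h | h
        · obtain ⟨i, hi⟩ := hsA _ ⟨w.2, h⟩
          exact ⟨i, 0, by rw [pow_zero, mul_one]; exact hi.symm⟩
        · obtain ⟨i, hi⟩ := hsA _ ⟨mul_mem w.2 H.tT, h⟩
          refine ⟨i, 1, ?_⟩
          rw [show s ^ i = (w : G) * t from hi, pow_one, mul_assoc, H.tt, mul_one]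
      obtain ⟨i, k, hx'⟩ := hdec x
      obtain ⟨i', k', hy'⟩ := hdec y
      apply Subtype.ext
      show (x : G) * y = y * x
      rw [hx', hy']
      have hst : Commute s t := H.ts.symm
      exact (((Commute.refl s).zpow_zpow i i').mul_right ((hst.zpow_left i).pow_right k')).mul_left
        (((hst.symm.pow_left k).zpow_right i').mul_right ((Commute.refl t).pow_pow k k'))
    · obtain ⟨hZ, -, -, -, -, hinv⟩ := MaxClass.abelian_index_two hn hn3 hj _ ha hCa htC
      obtain ⟨w, hwa, hwt, hww⟩ : ∃ w ∈ zpowers a, w * τ = τ * w ∧ (w : G) * w = s * s := by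
        set σ : T := ⟨s, H.sT⟩ with hσ
        by_cases hs : σ ∈ zpowers a
        · exact ⟨σ, hs, Subtype.ext H.ts.symm, rfl⟩
        · refine ⟨σ * τ, (mul_mem_iff_of_index_two ha).2 (iff_of_false hs htC), Subtype.ext ?_, ?_⟩
          · show s * t * t = t * (s * t)
            rw [← mul_assoc, H.ts]
          · show s * t * (s * t) = s * s
            rw [mul_assoc, ← mul_assoc t, H.ts, mul_assoc s t t, H.tt, mul_one]
      obtain ⟨i, hi⟩ := hwa
      have hi : a ^ i = w := hi
      set ζ := a * (τ * a * τ⁻¹) with hζ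
      have hζc := hinv a (mem_zpowers a)
      rw [← hζ] at hζc
      have hζ2 : ζ * ζ = 1 := by
        have := pow_card_eq_one' (x := (⟨ζ, hζc⟩ : center T))
        rw [hZ, pow_two] at this
        exact congrArg Subtype.val this
      have hw2 : w * w = ζ ^ i := by
        have hc : Commute a (τ * a * τ⁻¹) :=
          hCa a (mem_zpowers a) _ ((normal_of_index_eq_two ha).conj_mem a (mem_zpowers a) τ)
        rw [hζ, hc.mul_zpow, conj_zpow, hi, ← hwt, mul_inv_cancel_right]
      rcases Int.even_or_odd' i with ⟨l, rfl | rfl⟩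
      · rw [zpow_mul, zpow_two, hζ2, one_zpow] at hw2
        exact H.s_sq_ne (hww ▸ congrArg Subtype.val hw2)
      · -- then `w` generates the cyclic subgroup
        have ho : orderOf a ∣ 4 := by
          have h4 : w ^ 4 = 1 := by
            apply Subtype.ext
            show (w : G) ^ 4 = 1
            rw [show (4 : ℕ) = 2 * 2 from rfl, pow_mul, pow_two (w : G), hww, pow_two]
            exact H.z_sq
          obtain ⟨k, hk⟩ := H.two a
          obtain ⟨b, hb1, hb⟩ := (Nat.dvd_prime_pow Nat.prime_two).1 (orderOf_dvd_of_pow_eq_one hk)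
          have h5 : a ^ ((2 * l + 1) * 4) = 1 := by
            rw [zpow_mul, hi, show (4 : ℤ) = ((4 : ℕ) : ℤ) from rfl, zpow_natCast, h4]
          rw [← orderOf_dvd_iff_zpow_eq_one, hb] at h5
          push_cast at h5
          rw [hb]
          have hcop : IsCoprime ((2 : ℤ) ^ b) (2 * l + 1) :=
            IsCoprime.pow_left ⟨-l, 1, by ring⟩
          have h6 := hcop.dvd_of_dvd_mul_left h5
          exact Int.natCast_dvd_natCast.1 (by push_cast; exact h6)
        have h1 := (zpowers a).card_mul_index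
        rw [ha, Nat.card_zpowers] at h1
        have h4 := Nat.le_of_dvd (by norm_num) ho
        have hT8 : Nat.card T = 8 := by
          have h8 : 2 ^ 3 ≤ 2 ^ n := Nat.pow_le_pow_right two_pos hn3
          omega
        refine hne ?_
        have hwa' : zpowers w = zpowers a := by
          refine eq_of_le_of_card_ge (zpowers_le.2 (hi ▸ zpow_mem (mem_zpowers a) _)) ?_
          have hw4 : orderOf (w : G) = 4 := by
            refine orderOf_eq_prime_pow (p := 2) (n := 1) ?_ ?_
            · rw [pow_one, pow_two, hww]; exact H.s_sq_ne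
            · rw [show 2 ^ (1 + 1) = 2 * 2 from rfl, pow_mul, pow_two (w : G), hww, pow_two]; exact H.z_sq
          rw [orderOf_coe] at hw4
          rw [Nat.card_zpowers, Nat.card_zpowers, hw4]
          exact h4
        rw [hK, _root_.commutator_def, eq_bot_iff, commutator_le]
        intro x _ y _
        rw [mem_bot, commutatorElement_eq_one_iff_commute]
        have hdec : ∀ v : T, ∃ i : ℤ, ∃ j : ℕ, v = w ^ i * τ ^ j := fun v => by
          by_cases hv : v ∈ zpowers a
          · rw [← hwa'] at hv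
            obtain ⟨i, hi⟩ := hv
            exact ⟨i, 0, by rw [pow_zero, mul_one]; exact hi.symm⟩
          · have h2 : v * τ ∈ zpowers w := hwa'.symm ▸ (mul_mem_iff_of_index_two ha).2 (iff_of_false hv htC)
            obtain ⟨i, hi⟩ := h2
            refine ⟨i, 1, ?_⟩
            rw [show w ^ i = v * τ from hi, pow_one, mul_assoc,
              show τ * τ = 1 from Subtype.ext H.tt, mul_one]
        obtain ⟨i', k, rfl⟩ := hdec x
        obtain ⟨i'', k', rfl⟩ := hdec y
        have hwt' : Commute w τ := hwt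
        exact (((Commute.refl w).zpow_zpow i' i'').mul_right ((hwt'.zpow_left i').pow_right k')).mul_left
          (((hwt'.symm.pow_left k).zpow_right i'').mul_right ((Commute.refl τ).pow_pow k k'))
  · have h8 : 2 ^ 3 ≤ 2 ^ j := Nat.pow_le_pow_right two_pos hj3
    have h9 : Nat.card (⁅T, T⁆ : Subgroup G) * 8 ≤ Nat.card (⁅T, T⁆ : Subgroup G) * 2 ^ j :=
      Nat.mul_le_mul_left _ h8
    omega

theorem surj_D {u : G} (huT : u ∈ T)
    (hC : ∀ P : Subgroup G, P ≤ A → IsPGroup 2 P → (∀ x ∈ P, x * u = u * x) → Nat.card P ≤ 4)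
    {d : G} (hd : d ∈ ⁅T, T⁆) : ∃ x ∈ T ⊓ A, d = x⁻¹ * (u * x * u⁻¹) :=
  (H.card_bound huT hC).2 H.card_D d hd

/-- An involution of `T` with small centralizer in `A` inverts `D`. -/
theorem inverts {u : G} (huT : u ∈ T) (huu : u * u = 1)
    (hC : ∀ P : Subgroup G, P ≤ A → IsPGroup 2 P → (∀ x ∈ P, x * u = u * x) → Nat.card P ≤ 4)
    {d : G} (hd : d ∈ ⁅T, T⁆) : u * d * u⁻¹ = d⁻¹ := by
  obtain ⟨x, -, rfl⟩ := H.surj_D huT hC hd
  have hu : u⁻¹ = u := inv_eq_of_mul_eq_one_right huu
  rw [mul_inv_rev, mul_inv_rev, mul_inv_rev, inv_inv, inv_inv, hu]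
  calc u * (x⁻¹ * (u * x * u)) * u = u * x⁻¹ * u * x * (u * u) := by group
    _ = _ := by rw [huu, mul_one]; group

theorem t_inverts {d : G} (hd : d ∈ ⁅T, T⁆) : t * d * t⁻¹ = d⁻¹ := H.inverts H.tT H.tt H.small hd

theorem s_notMem_D : s ∉ ⁅T, T⁆ := fun h => by
  have h1 := H.t_inverts h
  rw [H.ts, mul_inv_cancel_right] at h1
  exact H.s_inv_ne h1.symm

theorem D_comm {a b : G} (ha : a ∈ ⁅T, T⁆) (hb : b ∈ ⁅T, T⁆) : a * b = b * a := by
  have h1 := H.t_inverts (mul_mem ha hb)
  rw [show t * (a * b) * t⁻¹ = t * a * t⁻¹ * (t * b * t⁻¹) by group, H.t_inverts ha, H.t_inverts hb,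
    mul_inv_rev] at h1
  have h2 := congrArg Inv.inv h1
  simpa using h2.symm

theorem D_invol {a : G} (ha : a ∈ ⁅T, T⁆) (haa : a * a = 1) : a = 1 ∨ a = s * s := by
  refine H.cent_invol (H.D_le_T ha) (H.D_le_A ha) ?_ haa
  have h1 := H.t_inverts ha
  rw [inv_eq_of_mul_eq_one_right haa] at h1
  exact (mul_inv_eq_iff_eq_mul.1 h1).symm

theorem exists_gen : ∃ d, (⁅T, T⁆ : Subgroup G) = zpowers d := by
  classical
  set D : Subgroup G := ⁅T, T⁆ with hD
  letI : CommGroup D :=
    { (inferInstance : Group D) with mul_comm := fun a b => Subtype.ext (H.D_comm a.2 b.2) }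
  haveI : IsCyclic D := by
    refine NormalFour.isCyclic_of_sqrt_le_two (H.two.to_le H.D_le_T) ?_
    letI := Fintype.ofFinite D
    rw [Nat.card_eq_fintype_card]
    refine le_trans ?_ (Finset.card_le_two (a := (1 : D)) (b := if h : s * s ∈ D then ⟨s * s, h⟩ else 1))
    rw [← Finset.card_univ, ← Finset.card_map (Function.Embedding.subtype _)]
    refine Finset.card_le_card fun x hx => ?_
    rw [Finset.mem_map] at hx
    obtain ⟨⟨y, hy⟩, -, rfl⟩ := hx
    have hy2 : y * y = 1 := by rw [← pow_two]; exact hy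
    rcases H.D_invol y.2 (congrArg Subtype.val hy2) with h | h
    · simp [show y = 1 from Subtype.ext h]
    · have hz : s * s ∈ D := h ▸ y.2
      simp [dif_pos hz, show y = ⟨s * s, hz⟩ from Subtype.ext h]
  obtain ⟨g, hg⟩ := IsCyclic.exists_generator (α := D)
  refine ⟨g, le_antisymm (fun x hx => ?_) (zpowers_le.2 g.2)⟩
  obtain ⟨i, hi⟩ := hg ⟨x, hx⟩
  exact ⟨i, congrArg Subtype.val hi⟩

theorem z_mem_D (h : (⁅T, T⁆ : Subgroup G) ≠ ⊥) : s * s ∈ ⁅T, T⁆ := by
  haveI : Fact (Nat.Prime 2) := ⟨Nat.prime_two⟩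
  haveI : Nontrivial (⁅T, T⁆ : Subgroup G) := (nontrivial_iff_ne_bot _).2 h
  obtain ⟨w, hw, hw2, -⟩ := NormalFour.exists_central_mem (H.two.to_le H.D_le_T)
    (N := (⊤ : Subgroup (⁅T, T⁆ : Subgroup G))) top_ne_bot
  rw [← orderOf_coe] at hw2
  rcases H.D_invol w.2 (by rw [← pow_two, ← hw2, pow_orderOf_eq_one]) with h1 | h1
  · rw [h1, orderOf_one] at hw2
    norm_num at hw2
  · exact h1 ▸ w.2

end Hyp

end Cfsg.Agent.CyclicFourCent
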