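import Cfsg.Agent.Lib.CyclicFourCent.Transfer
import Cfsg.Agent.Lib.CyclicFourCent.Shape

/-!
The four cosets of the derived subgroup, the action of `s`, and the transfer criterion for the
subgroups containing it.
-/

set_option autoImplicit false
set_option linter.style.haveILetI false
set_option linter.unusedSectionVars false

namespace Cfsg.Agent.CyclicFourCent

open Subgroup

universe u

variable {G : Type u} [Group G] [Finite G]

/-- The subgroup generated by a subgroup containing the commutators and an element squaring into it. -/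
def adjoin (T K : Subgroup G) (a : G) (hKT : K ≤ T) (hDK : ⁅T, T⁆ ≤ K) (ha : a ∈ T) (haa : a * a ∈ K) :
    Subgroup G where
  carrier := {x | x ∈ K ∨ x * a⁻¹ ∈ K}
  one_mem' := Or.inl K.one_mem
  mul_mem' := by
    have hconj : ∀ {b k : G}, b ∈ T → k ∈ K → b * k * b⁻¹ ∈ K := fun {b k} hb hk => by
      have h := K.mul_mem (hDK (commutator_mem_commutator hb (hKT hk))) hk
      rwa [commutatorElement_def, inv_mul_cancel_right] at h
    rintro x y (hx | hx) (hy | hy)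
    · exact Or.inl (K.mul_mem hx hy)
    · exact Or.inr (by rw [mul_assoc]; exact K.mul_mem hx hy)
    · refine Or.inr ?_
      have h := K.mul_mem hx (hconj ha hy)
      rwa [show x * a⁻¹ * (a * y * a⁻¹) = x * y * a⁻¹ by group] at h
    · refine Or.inl ?_
      have h := K.mul_mem (K.mul_mem hx (hconj ha hy)) haa
      rwa [show x * a⁻¹ * (a * (y * a⁻¹) * a⁻¹) * (a * a) = x * y by group] at h
  inv_mem' := by
    have hconj : ∀ {b k : G}, b ∈ T → k ∈ K → b * k * b⁻¹ ∈ K := fun {b k} hb hk => by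
      have h := K.mul_mem (hDK (commutator_mem_commutator hb (hKT hk))) hk
      rwa [commutatorElement_def, inv_mul_cancel_right] at h
    rintro x (hx | hx)
    · exact Or.inl (K.inv_mem hx)
    · refine Or.inr ?_
      have h := K.mul_mem (hconj (T.inv_mem ha) (K.inv_mem hx)) (K.inv_mem haa)
      rwa [show a⁻¹ * (x * a⁻¹)⁻¹ * a⁻¹⁻¹ * (a * a)⁻¹ = x⁻¹ * a⁻¹ by group] at h

theorem mem_adjoin {T K : Subgroup G} {a : G} {hKT : K ≤ T} {hDK : ⁅T, T⁆ ≤ K} {ha : a ∈ T}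
    {haa : a * a ∈ K} {x : G} : x ∈ adjoin T K a hKT hDK ha haa ↔ x ∈ K ∨ x * a⁻¹ ∈ K :=
  Iff.rfl

theorem le_adjoin {T K : Subgroup G} {a : G} {hKT : K ≤ T} {hDK : ⁅T, T⁆ ≤ K} {ha : a ∈ T}
    {haa : a * a ∈ K} : K ≤ adjoin T K a hKT hDK ha haa := fun _ hx => Or.inl hx

theorem adjoin_le {T K : Subgroup G} {a : G} {hKT : K ≤ T} {hDK : ⁅T, T⁆ ≤ K} {ha : a ∈ T}
    {haa : a * a ∈ K} : adjoin T K a hKT hDK ha haa ≤ T := by
  rintro x (hx | hx)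
  · exact hKT hx
  · simpa using T.mul_mem (hKT hx) ha

namespace Hyp

variable {A T : Subgroup G} {t s : G} (H : Hyp A T t s)

include H

theorem conj_mem_A {g x : G} (hx : x ∈ A) : g⁻¹ * x * g ∈ A := H.normA.conj_mem' x hx g

/-- An element of `S` with the conjugates relevant to its transfer in `D ∪ D a` lies there. -/
theorem elim {a y : G} (ha : a ∈ T) (haA : a ∈ A) (haa : a * a ∈ ⁅T, T⁆) (hy : y ∈ T) (hyA : y ∈ A)
    (U : Subgroup G) (hU : IsPGroup 2 U) (hyU : y ∈ U) (hUy : ∀ u ∈ U, u * y = y * u)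
    (hlow : ∀ (k : ℕ) (g : G), 1 < k → k ∣ orderOf y → g⁻¹ * y ^ k * g ∈ T →
      g⁻¹ * y ^ k * g ∈ ⁅T, T⁆ ∨ g⁻¹ * y ^ k * g * a⁻¹ ∈ ⁅T, T⁆)
    (hsq : ∀ g : G, g⁻¹ * y * g ∈ T → g⁻¹ * y * g ∈ A →
      g⁻¹ * y * g * (g⁻¹ * y * g) ∈ ⁅T, T⁆ ∨ g⁻¹ * y * g * (g⁻¹ * y * g) * a⁻¹ ∈ ⁅T, T⁆)
    (hfix : ∀ g : G, (∀ u ∈ U, g⁻¹ * u * g ∈ T) → g⁻¹ * y * g ∈ T → g⁻¹ * y * g ∈ A →
      g⁻¹ * y * g * y⁻¹ ∈ ⁅T, T⁆ ∨ g⁻¹ * y * g * y⁻¹ * a⁻¹ ∈ ⁅T, T⁆) :
    y ∈ ⁅T, T⁆ ∨ y * a⁻¹ ∈ ⁅T, T⁆ := by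
  set K := adjoin T ⁅T, T⁆ a H.D_le_T le_rfl ha haa with hK
  have hKA : K ≤ A := by
    rintro x (hx | hx)
    · exact H.D_le_A hx
    · simpa using A.mul_mem (H.D_le_A hx) haA
  set M := adjoin T K t adjoin_le le_adjoin H.tT (by rw [H.tt]; exact K.one_mem) with hM
  have hmem : ∀ x ∈ A, x ∈ M → x ∈ ⁅T, T⁆ ∨ x * a⁻¹ ∈ ⁅T, T⁆ := by
    rintro x hxA (hx | hx)
    · exact hx
    · refine absurd ?_ H.tA
      have h1 := hKA hx
      have h2 : t⁻¹ ∈ A := by simpa using A.mul_mem (A.inv_mem hxA) h1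
      simpa using A.inv_mem h2
  refine hmem y hyA (mem_of_transfer T H.odd M (le_adjoin.trans le_adjoin) hy
    (fun B _ φ => transfer_one_of_perfect H.perf hyA B φ) U hU hyU hUy ?_ ?_ ?_)
  · exact fun k g hk hd h => Or.inl (hlow k g hk hd h)
  · exact fun g h => Or.inl (hsq g h (H.conj_mem_A hyA))
  · intro g hg
    exact Or.inl (hfix g hg (hg y hyU) (H.conj_mem_A hyA))

/-- For an involution only the fixed cosets matter. -/
theorem elim_invol {a y : G} (ha : a ∈ T) (haA : a ∈ A) (haa : a * a ∈ ⁅T, T⁆) (hy : y ∈ T) (hyA : y ∈ A)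
    (hyy : y * y = 1) (hy1 : y ≠ 1)
    (U : Subgroup G) (hU : IsPGroup 2 U) (hyU : y ∈ U) (hUy : ∀ u ∈ U, u * y = y * u)
    (hfix : ∀ g : G, (∀ u ∈ U, g⁻¹ * u * g ∈ T) → g⁻¹ * y * g ∈ T → g⁻¹ * y * g ∈ A →
      g⁻¹ * y * g * y⁻¹ ∈ ⁅T, T⁆ ∨ g⁻¹ * y * g * y⁻¹ * a⁻¹ ∈ ⁅T, T⁆) :
    y ∈ ⁅T, T⁆ ∨ y * a⁻¹ ∈ ⁅T, T⁆ := by
  refine H.elim ha haA haa hy hyA U hU hyU hUy (fun k g hk hd _ => Or.inl ?_) (fun g _ _ => Or.inl ?_) hfix
  · have ho : orderOf y = 2 := orderOf_eq_prime (by rw [pow_two]; exact hyy) hy1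
    rw [ho] at hd
    obtain rfl : k = 2 := le_antisymm (Nat.le_of_dvd two_pos hd) hk
    rw [pow_two, hyy, mul_one, inv_mul_cancel]
    exact one_mem _
  · rw [show g⁻¹ * y * g * (g⁻¹ * y * g) = g⁻¹ * (y * y) * g by group, hyy, mul_one, inv_mul_cancel]
    exact one_mem _

theorem exists_outside (hD : (⁅T, T⁆ : Subgroup G) ≠ ⊥) :
    ∃ r ∈ T, r ∈ A ∧ r ∉ ⁅T, T⁆ ∧ r * s⁻¹ ∉ ⁅T, T⁆ := by
  classical
  by_contra hne
  push Not at hne
  letI := Fintype.ofFinite G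
  have hS : Nat.card (T ⊓ A : Subgroup G) = (Finset.univ.filter (fun x => x ∈ T ⊓ A)).card := by
    rw [Nat.card_eq_fintype_card, Fintype.card_subtype]
  have hDc : Nat.card (⁅T, T⁆ : Subgroup G) = (Finset.univ.filter (fun x => x ∈ ⁅T, T⁆)).card := by
    rw [Nat.card_eq_fintype_card, Fintype.card_subtype]
  set Ds := Finset.univ.filter (fun x => x ∈ ⁅T, T⁆)
  have hsub : Finset.univ.filter (fun x => x ∈ T ⊓ A) ⊆ Ds ∪ Ds.image (fun x => x * s) := by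
    intro x hx
    have hxS := (Finset.mem_filter.1 hx).2
    by_cases h : x ∈ ⁅T, T⁆
    · exact Finset.mem_union_left _ (Finset.mem_filter.2 ⟨Finset.mem_univ _, h⟩)
    · exact Finset.mem_union_right _ (Finset.mem_image.2 ⟨x * s⁻¹,
        Finset.mem_filter.2 ⟨Finset.mem_univ _, hne x hxS.1 hxS.2 h⟩, by group⟩)
  have h1 := (Finset.card_le_card hsub).trans ((Finset.card_union_le _ _).trans
    (Nat.add_le_add_left Finset.card_image_le _))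
  rw [← hS, ← hDc] at h1
  have h2 := H.card_D
  have h3 : 0 < Nat.card (⁅T, T⁆ : Subgroup G) := Nat.card_pos
  omega

/-- `S` is the union of four cosets of `D`. -/
theorem four_cosets (hD : (⁅T, T⁆ : Subgroup G) ≠ ⊥) {r : G} (hr : r ∈ T) (hrA : r ∈ A)
    (hrD : r ∉ ⁅T, T⁆) (hrs : r * s⁻¹ ∉ ⁅T, T⁆) {x : G} (hx : x ∈ T) (hxA : x ∈ A) :
    x ∈ ⁅T, T⁆ ∨ x * s⁻¹ ∈ ⁅T, T⁆ ∨ x * r⁻¹ ∈ ⁅T, T⁆ ∨ x * (r * s)⁻¹ ∈ ⁅T, T⁆ := by
  classical
  set K := (⁅T, T⁆ : Subgroup G).subgroupOf (T ⊓ A) with hK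
  haveI hKn : K.Normal := ⟨fun m hm g => by
    rw [hK, mem_subgroupOf] at hm ⊢
    exact H.conj_D g.2.1 hm⟩
  have hQ : Nat.card (↥(T ⊓ A) ⧸ K) = 4 := by
    have h := K.card_eq_card_quotient_mul_card_subgroup
    rw [Nat.card_congr (subgroupOfEquivOfLe H.commutator_le_S).toEquiv, H.card_D] at h
    exact (Nat.eq_of_mul_eq_mul_right Nat.card_pos h).symm
  set π := QuotientGroup.mk' K
  have hπ : ∀ a b : ↥(T ⊓ A), π a = π b ↔ (a : G) * (b : G)⁻¹ ∈ ⁅T, T⁆ := fun a b => by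
    rw [← mul_inv_eq_one, ← map_inv, ← map_mul, QuotientGroup.mk'_apply, QuotientGroup.eq_one_iff, hK,
      mem_subgroupOf, coe_mul, coe_inv]
  set σ : ↥(T ⊓ A) := ⟨s, H.sT, H.sA⟩ with hσ
  set ρ : ↥(T ⊓ A) := ⟨r, hr, hrA⟩ with hρ
  have hz := H.z_mem_D hD
  have d1 : π 1 ≠ π σ := fun e => H.s_notMem_D (by simpa using (hπ 1 σ).1 e)
  have d2 : π 1 ≠ π ρ := fun e => hrD (by simpa using (hπ 1 ρ).1 e)
  have d3 : π ρ ≠ π σ := fun e => hrs ((hπ ρ σ).1 e)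
  have d4 : π 1 ≠ π (ρ * σ) := fun e => by
    have h1 : r * s ∈ ⁅T, T⁆ := by simpa [← mul_inv_rev] using (hπ 1 (ρ * σ)).1 e
    have h2 := mul_mem h1 (inv_mem hz)
    rw [show r * s * (s * s)⁻¹ = r * s⁻¹ by group] at h2
    exact hrs h2
  have d5 : π ρ ≠ π (ρ * σ) := fun e => by
    refine d1 ?_
    rw [map_mul] at e
    rw [map_one]
    exact (mul_eq_left.1 e.symm).symm
  have d6 : π σ ≠ π (ρ * σ) := fun e => by
    refine d2 ?_
    rw [map_mul] at e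
    rw [map_one]
    exact (mul_eq_right.1 e.symm).symm
  letI := Fintype.ofFinite (↥(T ⊓ A) ⧸ K)
  have hfour : ({π 1, π σ, π ρ, π (ρ * σ)} : Finset _) = Finset.univ := by
    refine Finset.eq_univ_of_card _ ?_
    rw [← Nat.card_eq_fintype_card, hQ, Finset.card_insert_of_notMem (by simp [d1, d2, d4, -map_one, -map_mul]),
      Finset.card_insert_of_notMem (by simp [Ne.symm d3, d6, -map_one, -map_mul]), Finset.card_pair d5]
  have hxm := Finset.mem_univ (π ⟨x, hx, hxA⟩)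
  rw [← hfour] at hxm
  simp only [Finset.mem_insert, Finset.mem_singleton, hπ] at hxm
  simpa using hxm

/-- Fourth powers of elements of `S` lie in `D`. -/
theorem pow_four_mem {x : G} (hx : x ∈ T) (hxA : x ∈ A) : x ^ 4 ∈ ⁅T, T⁆ := by
  set K := (⁅T, T⁆ : Subgroup G).subgroupOf (T ⊓ A) with hK
  haveI hKn : K.Normal := ⟨fun m hm g => by
    rw [hK, mem_subgroupOf] at hm ⊢
    exact H.conj_D g.2.1 hm⟩
  have hQ : Nat.card (↥(T ⊓ A) ⧸ K) = 4 := by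
    have h := K.card_eq_card_quotient_mul_card_subgroup
    rw [Nat.card_congr (subgroupOfEquivOfLe H.commutator_le_S).toEquiv, H.card_D] at h
    exact (Nat.eq_of_mul_eq_mul_right Nat.card_pos h).symm
  have h1 := pow_card_eq_one' (x := QuotientGroup.mk' K ⟨x, hx, hxA⟩)
  rw [hQ, ← map_pow, QuotientGroup.mk'_apply, QuotientGroup.eq_one_iff, hK, mem_subgroupOf] at h1
  simpa using h1

/-- The commutator of `t` with an element outside `D ∪ D s` generates `D`. -/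
theorem gen (hD : (⁅T, T⁆ : Subgroup G) ≠ ⊥) {r : G} (hr : r ∈ T) (hrA : r ∈ A) (hrD : r ∉ ⁅T, T⁆) (hrs : r * s⁻¹ ∉ ⁅T, T⁆) :
    (⁅T, T⁆ : Subgroup G) = zpowers (r⁻¹ * (t * r * t⁻¹)) := by
  haveI : Fact (Nat.Prime 2) := ⟨Nat.prime_two⟩
  obtain ⟨d, hd⟩ := H.exists_gen
  set k := r⁻¹ * (t * r * t⁻¹) with hk
  have hkD : k ∈ ⁅T, T⁆ := by
    have := H.comm_mem (T.inv_mem hr) H.tT
    simpa [hk, mul_assoc] using this
  obtain ⟨i, hi⟩ := hd ▸ hkD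
  have hi : d ^ i = k := hi
  have hdD : d ∈ ⁅T, T⁆ := hd ▸ mem_zpowers d
  rcases Int.even_or_odd' i with ⟨l, rfl | rfl⟩
  · exfalso
    set w := d ^ l with hw
    have hwD : w ∈ ⁅T, T⁆ := hd ▸ zpow_mem (mem_zpowers d) _
    have hfix : r * w * t = t * (r * w) := by
      have h1 : t * (r * w) * t⁻¹ = r * w := by
        calc t * (r * w) * t⁻¹ = r * k * (t * w * t⁻¹) := by rw [hk]; group
          _ = r * w := by rw [H.t_inverts hwD, ← hi, hw, mul_assoc, ← zpow_neg, ← zpow_add]; ring_nf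
      exact (mul_inv_eq_iff_eq_mul.1 h1).symm
    have hz := H.z_mem_D hD
    rcases TwoFus.order_four_cases H.s4 (H.cent (T.mul_mem hr (H.D_le_T hwD))
        (A.mul_mem hrA (H.D_le_A hwD)) hfix) with h | h | h | h
    · exact hrD (by rw [eq_inv_of_mul_eq_one_left h]; exact inv_mem hwD)
    · refine hrs ?_
      rw [show r = s * w⁻¹ from eq_mul_inv_of_mul_eq h]
      exact H.conj_D H.sT (inv_mem hwD)
    · refine hrD ?_
      rw [show r = s * s * w⁻¹ from eq_mul_inv_of_mul_eq h]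
      exact mul_mem hz (inv_mem hwD)
    · refine hrs ?_
      rw [show r = s⁻¹ * w⁻¹ from eq_mul_inv_of_mul_eq h,
        show s⁻¹ * w⁻¹ * s⁻¹ = s⁻¹ * w⁻¹ * s⁻¹⁻¹ * (s * s)⁻¹ by group]
      exact mul_mem (H.conj_D (T.inv_mem H.sT) (inv_mem hwD)) (inv_mem hz)
  · obtain ⟨j, hj⟩ := H.two ⟨d, H.D_le_T hdD⟩
    have hj' : d ^ ((2 ^ j : ℕ) : ℤ) = 1 := by
      rw [zpow_natCast]; exact congrArg Subtype.val hj
    obtain ⟨a, b, hab⟩ : IsCoprime (2 * l + 1) ((2 : ℤ) ^ j) :=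
      IsCoprime.pow_right ⟨1, -l, by ring⟩
    refine le_antisymm (hd ▸ zpowers_le.2 ⟨a, ?_⟩) (zpowers_le.2 hkD)
    show k ^ a = d
    have h0 : d ^ (b * (2 : ℤ) ^ j) = 1 := by
      rw [mul_comm, zpow_mul, show ((2 : ℤ) ^ j) = ((2 ^ j : ℕ) : ℤ) by push_cast; ring, hj', one_zpow]
    calc k ^ a = d ^ (a * (2 * l + 1)) := by rw [← hi, ← zpow_mul, mul_comm]
      _ = d ^ (a * (2 * l + 1) + b * (2 : ℤ) ^ j) := by rw [zpow_add, h0, mul_one]
      _ = d := by rw [hab, zpow_one]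

end Hyp

end Cfsg.Agent.CyclicFourCent
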