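import Cfsg.Agent.Lib.Transfer.EngelTransfer

/-!
The transfer of an element, computed on the cosets fixed by a 2-group centralizing it.
-/

set_option autoImplicit false
set_option linter.style.haveILetI false

namespace Cfsg.Agent.CyclicFourCent

universe u v

variable {G : Type u} [Group G] [Finite G]

/-- If the proper powers contribute nothing and the cosets fixed by `U` all give the value of `y`,
then the transfer is that value. -/
theorem transfer_eq_self {A : Type v} [CommGroup A] {H : Subgroup G} (hodd : Odd H.index) (φ : H →* A)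
    {y : G} (hy : y ∈ H) (U : Subgroup G) (hU : IsPGroup 2 U) (hyU : y ∈ U)
    (hUy : ∀ u ∈ U, u * y = y * u)
    (hlow : ∀ (k : ℕ) (g : G) (h : g⁻¹ * y ^ k * g ∈ H), 1 < k → k ∣ orderOf y → φ ⟨_, h⟩ = 1)
    (hsq : ∀ (g : G) (h : g⁻¹ * y * g ∈ H), φ ⟨_, h⟩ * φ ⟨_, h⟩ = 1)
    (hfix : ∀ (g : G) (h : g⁻¹ * y * g ∈ H), (∀ u ∈ U, g⁻¹ * u * g ∈ H) → φ ⟨_, h⟩ = φ ⟨y, hy⟩) :
    MonoidHom.transfer φ y = φ ⟨y, hy⟩ := by
  classical
  haveI : Fact (Nat.Prime 2) := ⟨Nat.prime_two⟩
  haveI := Fintype.ofFinite (G ⧸ H)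
  rw [EngelTransfer.transfer_eq_prod φ y hlow]
  set f : G ⧸ H → A := fun c => EngelTransfer.val φ y c with hf
  set a := φ ⟨y, hy⟩ with ha
  have hinv : ∀ (u : U) (x : G ⧸ H), f (u • x) = f x := by
    rintro ⟨u, hu⟩ x
    obtain ⟨g, rfl⟩ := QuotientGroup.mk_surjective x
    show EngelTransfer.val φ y (QuotientGroup.mk (u * g)) = _
    rw [EngelTransfer.val_smul, show u⁻¹ * y * u = y by rw [mul_assoc, ← hUy u hu, inv_mul_cancel_left]]
  have h2 : ∀ x, f x * f x = 1 := by
    intro x
    obtain ⟨g, rfl⟩ := QuotientGroup.mk_surjective x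
    by_cases h : g⁻¹ * y * g ∈ H
    · simp only [hf, EngelTransfer.val_mk φ y g h]
      exact hsq g h
    · simp only [hf, EngelTransfer.val_mk_not φ y g h, mul_one]
  have hF : ∀ x : G ⧸ H, x ∈ MulAction.fixedPoints U (G ⧸ H) → f x = a := by
    intro x hx
    obtain ⟨g, rfl⟩ := QuotientGroup.mk_surjective x
    have hall : ∀ u ∈ U, g⁻¹ * u * g ∈ H := by
      intro u hu
      have h1 := hx ⟨u, hu⟩
      change QuotientGroup.mk (u * g) = (QuotientGroup.mk g : G ⧸ H) at h1
      rw [QuotientGroup.eq] at h1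
      have h1 := H.inv_mem h1
      rwa [show ((u * g)⁻¹ * g)⁻¹ = g⁻¹ * u * g by group] at h1
    have hyg := hall y hyU
    simp only [hf, EngelTransfer.val_mk φ y g hyg]
    exact hfix g hyg hall
  have hpow : ∀ (b : A), b * b = 1 → ∀ n : ℕ, b ^ n = b ^ (n % 2) := fun b hb n => by
    conv_lhs => rw [← Nat.div_add_mod n 2, pow_add, pow_mul, pow_two, hb, one_pow, one_mul]
  have hX := hU.card_modEq_card_fixedPoints (G ⧸ H)
  have hXodd : Odd (Nat.card (G ⧸ H)) := hodd
  -- the fibres
  have key : ∀ b : A, ∏ x ∈ Finset.univ.filter (fun x => f x = b), f x = if a = b then a else 1 := by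
    intro b
    by_cases hem : (Finset.univ.filter fun x => f x = b) = ∅
    · rw [hem, Finset.prod_empty]
      split_ifs with hab
      · exfalso
        have hne : (MulAction.fixedPoints U (G ⧸ H)).Nonempty := by
          rw [Set.nonempty_iff_ne_empty]
          intro he
          rw [he] at hX
          have : Nat.card (∅ : Set (G ⧸ H)) = 0 := by simp
          rw [this] at hX
          exact Nat.not_even_iff_odd.2 hXodd (Nat.even_iff.2 hX)
        obtain ⟨x, hx⟩ := hne
        have : x ∈ Finset.univ.filter fun x => f x = b := by simp [hF x hx, hab]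
        simp [hem] at this
      · rfl
    obtain ⟨x₁, hx₁⟩ := Finset.nonempty_iff_ne_empty.2 hem
    have hb : b * b = 1 := by rw [← (Finset.mem_filter.1 hx₁).2]; exact h2 _
    rw [Finset.prod_congr rfl (fun x hx => (Finset.mem_filter.1 hx).2), Finset.prod_const]
    let Y := {x : G ⧸ H // f x = b}
    letI : MulAction U Y :=
      { smul := fun u x => ⟨u • x.1, (hinv u x.1).trans x.2⟩
        one_smul := fun x => Subtype.ext (one_smul U x.1)
        mul_smul := fun u v x => Subtype.ext (mul_smul u v x.1) }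
    have hmod := hU.card_modEq_card_fixedPoints Y
    have hYc : Nat.card Y = (Finset.univ.filter fun x => f x = b).card := by
      rw [Nat.card_eq_fintype_card, Fintype.card_subtype]
    have hFc : Nat.card (MulAction.fixedPoints U Y) =
        if a = b then Nat.card (MulAction.fixedPoints U (G ⧸ H)) else 0 := by
      split_ifs with hab
      · refine Nat.card_congr
          { toFun := fun x => ⟨x.1.1, fun u => congrArg Subtype.val (x.2 u)⟩
            invFun := fun x => ⟨⟨x.1, (hF x.1 x.2).trans hab⟩, fun u => Subtype.ext (x.2 u)⟩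
            left_inv := fun x => rfl
            right_inv := fun x => rfl }
      · rw [Nat.card_eq_zero]
        exact Or.inl ⟨fun x => hab ((hF x.1.1 fun u => congrArg Subtype.val (x.2 u)).symm.trans x.1.2)⟩
    rw [hYc, hFc] at hmod
    rw [hpow b hb]
    split_ifs with hab
    · rw [if_pos hab] at hmod
      rw [hmod, ← hX, Nat.odd_iff.1 hXodd, pow_one, hab]
    · rw [if_neg hab] at hmod
      rw [hmod, Nat.zero_mod, pow_zero]
  calc ∏ x, f x = ∏ b ∈ Finset.univ.image f, ∏ x ∈ Finset.univ.filter (fun x => f x = b), f x :=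
        (Finset.prod_fiberwise_of_maps_to (fun x _ => Finset.mem_image_of_mem f (Finset.mem_univ x)) f).symm
    _ = ∏ b ∈ Finset.univ.image f, if a = b then a else 1 := Finset.prod_congr rfl fun b _ => key b
    _ = a := by
      rw [Finset.prod_ite_eq, if_pos]
      obtain ⟨x, hx⟩ : (MulAction.fixedPoints U (G ⧸ H)).Nonempty := by
        rw [Set.nonempty_iff_ne_empty]
        intro he
        rw [he] at hX
        have : Nat.card (∅ : Set (G ⧸ H)) = 0 := by simp
        rw [this] at hX
        exact Nat.not_even_iff_odd.2 hXodd (Nat.even_iff.2 hX)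
      exact Finset.mem_image.2 ⟨x, Finset.mem_univ x, hF x hx⟩

/-- An element killed by every transfer lies in a normal subgroup with abelian quotient of a subgroup of
odd index, if its relevant conjugates do so modulo it. -/
theorem mem_of_transfer (T : Subgroup G) (hodd : Odd T.index) (M : Subgroup G)
    (hM : ⁅T, T⁆ ≤ M) {y : G} (hy : y ∈ T)
    (htr : ∀ (A : Type u) [CommGroup A] (φ : T →* A), MonoidHom.transfer φ y = 1)
    (U : Subgroup G) (hU : IsPGroup 2 U) (hyU : y ∈ U) (hUy : ∀ u ∈ U, u * y = y * u)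
    (hlow : ∀ (k : ℕ) (g : G), 1 < k → k ∣ orderOf y → g⁻¹ * y ^ k * g ∈ T → g⁻¹ * y ^ k * g ∈ M)
    (hsq : ∀ g : G, g⁻¹ * y * g ∈ T → g⁻¹ * y * g * (g⁻¹ * y * g) ∈ M)
    (hfix : ∀ g : G, (∀ u ∈ U, g⁻¹ * u * g ∈ T) → g⁻¹ * y * g * y⁻¹ ∈ M) : y ∈ M := by
  have hcomm : ∀ a b : G, a ∈ T → b ∈ T → a * b * a⁻¹ * b⁻¹ ∈ M := fun a b ha hb => by
    have := hM (Subgroup.commutator_mem_commutator ha hb)
    simpa [commutatorElement_def] using this
  haveI hn : (M.subgroupOf T).Normal := ⟨fun m hm x => by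
    rw [Subgroup.mem_subgroupOf] at hm ⊢
    have := M.mul_mem (hcomm x m x.2 m.2) hm
    simpa using this⟩
  letI : CommGroup (T ⧸ M.subgroupOf T) :=
    { (inferInstance : Group (T ⧸ M.subgroupOf T)) with
      mul_comm := fun a b => by
        obtain ⟨a, rfl⟩ := QuotientGroup.mk'_surjective _ a
        obtain ⟨b, rfl⟩ := QuotientGroup.mk'_surjective _ b
        rw [← map_mul, ← map_mul, QuotientGroup.mk'_apply, QuotientGroup.mk'_apply, QuotientGroup.eq,
          Subgroup.mem_subgroupOf]
        have := hcomm (b : G)⁻¹ (a : G)⁻¹ (T.inv_mem b.2) (T.inv_mem a.2)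
        simpa [mul_assoc] using this }
  set φ := QuotientGroup.mk' (M.subgroupOf T) with hφ
  have hker : ∀ x : T, φ x = 1 ↔ (x : G) ∈ M := fun x => by
    rw [hφ, QuotientGroup.mk'_apply, QuotientGroup.eq_one_iff, Subgroup.mem_subgroupOf]
  refine (hker ⟨y, hy⟩).1 ?_
  rw [← transfer_eq_self hodd φ hy U hU hyU hUy ?_ ?_ ?_, htr]
  · intro k g h hk hd
    exact (hker _).2 (hlow k g hk hd h)
  · intro g h
    rw [← map_mul]
    exact (hker _).2 (hsq g h)
  · intro g h hall
    rw [← mul_inv_eq_one, ← map_inv, ← map_mul]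
    exact (hker _).2 (hfix g hall)

/-- The transfer kills the elements of a perfect subgroup. -/
theorem transfer_one_of_perfect {A : Subgroup G} (hA : ⁅A, A⁆ = A) {T : Subgroup G} {y : G} (hy : y ∈ A)
    (M : Type v) [CommGroup M] (φ : T →* M) : MonoidHom.transfer φ y = 1 := by
  have h : ⁅A, A⁆ ≤ (MonoidHom.transfer φ).ker := Subgroup.commutator_le.2 fun a _ b _ => by
    rw [MonoidHom.mem_ker, commutatorElement_def, map_mul, map_mul, map_mul, map_inv, map_inv,
      mul_right_comm _ (MonoidHom.transfer φ b), mul_inv_cancel, one_mul, mul_inv_cancel]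
  exact MonoidHom.mem_ker.1 (h (hA.symm ▸ hy))

end Cfsg.Agent.CyclicFourCent
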